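import Groth.Agent.Lib.QcohEt15.Alt.Eps
import Groth.Agent.Lib.QcohEt15.CechGood

/-!
# The alternating complex
-/

universe u

set_option backward.isDefEq.respectTransparency false
set_option backward.isDefEq.respectTransparency.types false

open CategoryTheory CategoryTheory.Limits AlgebraicGeometry Opposite
open scoped Groth.Agent.QcohEt15

namespace Groth.Agent.QcohEt15.Alt

open AlgSp Groth.Agent.AlgSpEt

variable {S : Scheme.{u}} {X : Sp S} {U : EtOver X}

/-- The map of products induced on the second factor. -/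
noncomputable def idp (V : EtOver X) {W W' : EtOver X} (m : W' ⟶ W) : EtOver.prodObj V W' ⟶ EtOver.prodObj V W :=
  pl (EtOver.prodFst V W') (EtOver.prodSnd V W' ≫ m)

@[reassoc (attr := simp)]
theorem idp_fst (V : EtOver X) {W W' : EtOver X} (m : W' ⟶ W) :
    idp V m ≫ EtOver.prodFst V W = EtOver.prodFst V W' := pl_fst _ _

@[reassoc (attr := simp)]
theorem idp_snd (V : EtOver X) {W W' : EtOver X} (m : W' ⟶ W) :
    idp V m ≫ EtOver.prodSnd V W = EtOver.prodSnd V W' ≫ m := pl_snd _ _

theorem idp_comp (V : EtOver X) {W W' W'' : EtOver X} (m : W' ⟶ W) (m' : W'' ⟶ W') :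
    idp V m' ≫ idp V m = idp V (m' ≫ m) := prod_hom_ext (by simp) (by simp)

theorem idp_id (V W : EtOver X) : idp V (𝟙 W) = 𝟙 _ := prod_hom_ext (by simp) (by simp)

/-- Evaluation of morphisms of sheaves at a section. -/
noncomputable def ev {A B : AbEt X} (V : EtOver X) (x : A.obj.obj (op V)) : (A ⟶ B) →+ B.obj.obj (op V) :=
  AddMonoidHom.mk' (fun φ => φ.hom.app (op V) x) fun _ _ => rfl

variable (M : ModEt X)

/-- Sections on products of a module. -/
noncomputable abbrev G (W : EtOver X) : AbEt X := (powF W).obj ((toAbEt X).obj M)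

/-- A section of a power sheaf. -/
abbrev Sec (V W : EtOver X) : Type (u + 1) := sectModEt M (EtOver.prodObj V W)

/-- Multiplication by a function. -/
noncomputable def smulHom (E : EtOver X) (a : Γo E) : sectModEt M E →+ sectModEt M E :=
  AddMonoidHom.mk' (a • ·) (smul_add a)

/-- Multiplication by a function on the fixed factor. -/
noncomputable def mulA {W : EtOver X} (a : Γo W) : G M W ⟶ G M W :=
  ⟨{ app := fun V => AddCommGrpCat.ofHom (smulHom M (EtOver.prodObj V.unop W) (γ (EtOver.prodSnd V.unop W) a))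
     naturality := fun V V' g => ConcreteCategory.hom_ext _ _ fun x => by
      show smulHom M (EtOver.prodObj V'.unop W) (γ (EtOver.prodSnd V'.unop W) a) (res M (pm W g.unop) x) =
        res M (pm W g.unop) (smulHom M (EtOver.prodObj V.unop W) (γ (EtOver.prodSnd V.unop W) a) x)
      simp only [smulHom, AddMonoidHom.mk'_apply]
      rw [res_smul, ← RingHom.comp_apply, ← γ_comp, pm_snd] }⟩

/-- The differential. -/
noncomputable def dd (U : EtOver X) (n : ℕ) : G M (Tp U n) ⟶ G M (Tp U (n + 1)) :=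
  ∑ i : Fin (n + 2), ((-1 : ℤ) ^ (i : ℕ)) • powMap ((toAbEt X).obj M) (face U i)

/-- The projector. -/
noncomputable def proj {n : ℕ} (a : Γo (Tp U n)) : G M (Tp U n) ⟶ G M (Tp U n) :=
  ∑ σ : Equiv.Perm (Fin (n + 1)),
    ((Equiv.Perm.sign σ : ℤˣ) : ℤ) • (mulA M a ≫ powMap ((toAbEt X).obj M) (perm U σ))

variable {M}

/-- The differential on sections. -/
noncomputable def dA {n : ℕ} {V : EtOver X} (x : Sec M V (Tp U n)) : Sec M V (Tp U (n + 1)) :=
  (dd M U n).hom.app (op V) x

/-- The projector on sections. -/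
noncomputable def prA {n : ℕ} (a : Γo (Tp U n)) {V : EtOver X} (x : Sec M V (Tp U n)) : Sec M V (Tp U n) :=
  (proj M a).hom.app (op V) x

theorem dA_sub {n : ℕ} {V : EtOver X} (x y : Sec M V (Tp U n)) : dA (x - y) = dA x - dA y :=
  map_sub ((dd M U n).hom.app (op V)).hom x y

theorem dd_apply {n : ℕ} (V : EtOver X) (x : Sec M V (Tp U n)) :
    dA x =
      ∑ i : Fin (n + 2), ((-1 : ℤ) ^ (i : ℕ)) • (res M (idp V (face U i)) x : Sec M V (Tp U (n + 1))) := by
  change ev V x (dd M U n) = _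
  simp only [dd, map_sum, map_zsmul]
  rfl

theorem proj_apply {n : ℕ} (a : Γo (Tp U n)) (V : EtOver X) (x : Sec M V (Tp U n)) :
    prA a x = ∑ σ : Equiv.Perm (Fin (n + 1)), ((Equiv.Perm.sign σ : ℤˣ) : ℤ) •
      (res M (idp V (perm U σ)) (γ (EtOver.prodSnd V (Tp U n)) a • x) : Sec M V (Tp U n)) := by
  change ev V x (proj M a) = _
  simp only [proj, map_sum, map_zsmul]
  rfl

variable (ε : Γo (EtOver.prodObj U U))

/-- Alternating sections supported on distinct tuples. -/
def InK (n : ℕ) (V : EtOver X) (x : Sec M V (Tp U n)) : Prop :=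
  (∀ σ : Equiv.Perm (Fin (n + 1)), res M (idp V (perm U σ)) x = ((Equiv.Perm.sign σ : ℤˣ) : ℤ) • x) ∧
    ∀ a b : Fin (n + 1), a ≠ b → γ (EtOver.prodSnd V (Tp U n)) (E ε (tπ U n a) (tπ U n b)) • x = 0

theorem γ_snd_idp {W W' : EtOver X} (V : EtOver X) (m : W' ⟶ W) (a : Γo W) :
    γ (idp V m) (γ (EtOver.prodSnd V W) a) = γ (EtOver.prodSnd V W') (γ m a) := by
  rw [← RingHom.comp_apply, ← γ_comp, idp_snd, γ_comp]
  rfl

variable {ε}

theorem proj_of_inK {n : ℕ} {a : Γo (Tp U n)}
    (htr : ∑ σ : Equiv.Perm (Fin (n + 1)), γ (perm U σ) a = dist ε n) {V : EtOver X} {x : Sec M V (Tp U n)}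
    (hx : InK ε n V x) : prA a x = x := by
  rw [proj_apply]
  simp only [res_smul, hx.1, smul_comm _ (γ _ _), γ_snd_idp, smul_smul, ← Units.val_mul, Int.units_mul_self,
    Units.val_one, one_smul]
  rw [← Finset.sum_smul, ← map_sum, htr]
  exact dist_smul_eq (γ (EtOver.prodSnd V (Tp U n))) x hx.2

theorem inK_proj (hε : IsDiag ε) {n : ℕ} {a : Γo (Tp U n)} (ha : dist ε n * a = a) (V : EtOver X)
    (x : Sec M V (Tp U n)) : InK ε n V (prA a x) := by
  rw [proj_apply]
  refine ⟨fun τ => ?_, fun b c hbc => ?_⟩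
  · rw [map_sum, Finset.smul_sum]
    refine Fintype.sum_equiv (Equiv.mulLeft τ) _ _ fun σ => ?_
    rw [map_zsmul, ← res_comp, idp_comp, perm_comp, Equiv.coe_mulLeft, smul_smul, map_mul, Units.val_mul,
      ← mul_assoc, ← Units.val_mul, Int.units_mul_self, Units.val_one, one_mul]
  · rw [Finset.smul_sum]
    refine Finset.sum_eq_zero fun σ _ => ?_
    have h0 : E ε (tπ U n b) (tπ U n c) * γ (perm U σ) a = 0 := by
      rw [← ha, map_mul, γ_perm_dist, ← mul_assoc, E_mul_dist hε hbc, zero_mul]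
    rw [smul_comm _ (((Equiv.Perm.sign σ : ℤˣ) : ℤ)), res_smul, γ_snd_idp, smul_smul, ← map_mul, h0, map_zero,
      zero_smul, smul_zero]

theorem res_ext_of_idempotent {W : EtOver X} {e : Γo W} (he : IsIdempotentElem e) (x : sectModEt M W)
    (h : ∀ (Z : EtOver X) (g : Z ⟶ W), IsUnit (γ g e) → res M g x = 0) : e • x = 0 := by
  let O : Bool → W.obj.left.left.Opens := fun b => W.obj.left.left.basicOpen (if b then e else 1 - e)
  refine sections_ext_family M (fun b : Bool => AlgSpEt14.openSub W (O b)) (fun b => AlgSpEt14.openSubι W (O b))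
    (fun y => ?_) fun b => ?_
  · by_cases hy : y ∈ W.obj.left.left.basicOpen e
    · exact ⟨true, (AlgSpEt14.range_openSubι W _).ge hy⟩
    · refine ⟨false, (AlgSpEt14.range_openSubι W _).ge ?_⟩
      change y ∈ W.obj.left.left.basicOpen (1 - e)
      rw [Scheme.mem_basicOpen_top] at hy ⊢
      rw [map_sub, map_one]
      exact ((IsLocalRing.isUnit_or_isUnit_one_sub_self _).resolve_left hy)
  · have hu : IsUnit (γ (AlgSpEt14.openSubι W (O b)) (if b then e else 1 - e)) := by
      have h2 : (AlgSpEt14.openSub W (O b)).obj.left.left.basicOpen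
          (γ (AlgSpEt14.openSubι W (O b)) (if b then e else 1 - e)) = ⊤ := by
        refine top_le_iff.1 fun z _ => ?_
        rw [← Scheme.preimage_basicOpen_top]
        exact (AlgSpEt14.range_openSubι W (O b)).le ⟨z, rfl⟩
      exact (AlgSpEt14.openSub W (O b)).obj.left.left.toRingedSpace.isUnit_of_isUnit_germ ⊤ _ fun z _ =>
        (Scheme.mem_basicOpen_top _ _ _).1 (h2.ge (Set.mem_univ z))
    rw [res_smul, map_zero]
    cases b
    · have h3 := he.map (γ (AlgSpEt14.openSubι W (O false)))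
      simp only [Bool.false_eq_true, if_false, map_sub, map_one] at hu
      have h4 : γ (AlgSpEt14.openSubι W (O false)) e = 0 := hu.mul_left_eq_zero.1 h3.mul_one_sub_self
      rw [h4, zero_smul]
    · simp only [if_true] at hu
      rw [h _ _ hu, smul_zero]

theorem inK_dd (hε : IsDiag ε) {n : ℕ} {V : EtOver X} {x : Sec M V (Tp U n)} (hx : InK ε n V x) :
    InK ε (n + 1) V (dA x) := by
  rw [dd_apply]
  refine ⟨fun σ => ?_, fun a b hab => ?_⟩
  · rw [map_sum, Finset.smul_sum]
    refine Fintype.sum_equiv σ _ _ fun i => ?_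
    obtain ⟨τ, hτ, hs⟩ := exists_perm_face U σ i
    rw [map_zsmul, ← res_comp, idp_comp, hτ, ← idp_comp, res_comp, hx.1, map_zsmul, smul_smul, smul_smul, hs]
    congr 1
    push_cast
    rw [pow_add, mul_left_comm, ← mul_assoc (((-1 : ℤ)) ^ (i : ℕ)), ← mul_pow]
    simp
  · let e := γ (EtOver.prodSnd V (Tp U (n + 1))) (E ε (tπ U (n + 1) a) (tπ U (n + 1) b))
    change e • _ = (0 : Sec M V (Tp U (n + 1)))
    have he : IsIdempotentElem e := (isIdempotentElem_E hε _ _).map _
    rw [Finset.smul_sum, ← Finset.sum_subset (Finset.subset_univ ({a, b} : Finset (Fin (n + 2))))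
      (fun i _ hi => ?_), Finset.sum_pair hab, ← smul_add]
    · refine res_ext_of_idempotent he _ fun Z g hg => ?_
      have heq : g ≫ EtOver.prodSnd V _ ≫ tπ U (n + 1) a = g ≫ EtOver.prodSnd V _ ≫ tπ U (n + 1) b := by
        refine eq_of_isUnit_E hε ?_
        rw [← γ_E, ← γ_E]
        exact hg
      obtain ⟨τ, hτ, hs⟩ := exists_perm_face U (Equiv.swap a b) a
      rw [Equiv.swap_apply_left] at hτ hs
      have hg' : g ≫ idp V (perm U (Equiv.swap a b)) = g := prod_hom_ext (by simp) (tp_hom_ext _ fun j => by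
        simp only [Category.assoc, idp_snd_assoc, perm_π]
        rcases eq_or_ne j a with rfl | ha
        · rw [Equiv.swap_apply_left, heq]
        rcases eq_or_ne j b with rfl | hb
        · rw [Equiv.swap_apply_right, heq]
        · rw [Equiv.swap_apply_of_ne_of_ne ha hb])
      have hga : g ≫ idp V (face U a) = g ≫ idp V (face U b) ≫ idp V (perm U τ) := by
        conv_lhs => rw [← hg']
        rw [Category.assoc, idp_comp, idp_comp, hτ]
      have h1 : res M g (res M (idp V (face U a)) x) =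
          ((Equiv.Perm.sign τ : ℤˣ) : ℤ) • res M g (res M (idp V (face U b)) x) := by
        rw [← res_comp, hga, res_comp, res_comp, hx.1, map_zsmul, map_zsmul]
      rw [map_add, map_zsmul, map_zsmul, h1, smul_smul, ← add_smul, hs, Equiv.Perm.sign_swap hab]
      convert zero_smul ℤ _
      push_cast
      rw [pow_add, mul_left_comm, ← mul_assoc (((-1 : ℤ)) ^ (a : ℕ)), ← mul_pow]
      simp
    · simp only [Finset.mem_insert, Finset.mem_singleton, not_or] at hi
      obtain ⟨a', rfl⟩ := Fin.exists_succAbove_eq (Ne.symm hi.1)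
      obtain ⟨b', rfl⟩ := Fin.exists_succAbove_eq (Ne.symm hi.2)
      have h0 := congrArg (res M (idp V (face U i))) (hx.2 a' b' fun h => hab (h ▸ rfl))
      rw [res_smul, map_zero, γ_snd_idp, γ_E, face_π, face_π] at h0
      rw [smul_comm, h0, smul_zero]

section Contraction

variable {V : EtOver X} (s : V ⟶ U)

/-- Prepending the given component. -/
noncomputable def cons (n : ℕ) : EtOver.prodObj V (Tp U n) ⟶ EtOver.prodObj V (Tp U (n + 1)) :=
  pl (EtOver.prodFst V (Tp U n)) (pl (EtOver.prodFst V (Tp U n) ≫ s) (EtOver.prodSnd V (Tp U n)))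

@[reassoc]
theorem cons_fst (n : ℕ) : cons s n ≫ EtOver.prodFst V (Tp U (n + 1)) = EtOver.prodFst V (Tp U n) := pl_fst _ _

@[reassoc]
theorem cons_zero (n : ℕ) :
    cons s n ≫ EtOver.prodSnd V (Tp U (n + 1)) ≫ tπ U (n + 1) 0 = EtOver.prodFst V (Tp U n) ≫ s := by
  rw [cons, tπ_succ_zero]; exact (pl_snd_assoc _ _ _).trans (pl_fst _ _)

@[reassoc]
theorem cons_succ (n : ℕ) (j : Fin (n + 1)) :
    cons s n ≫ EtOver.prodSnd V (Tp U (n + 1)) ≫ tπ U (n + 1) j.succ =
      EtOver.prodSnd V (Tp U n) ≫ tπ U n j := by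
  rw [cons, tπ_succ_succ]; exact (pl_snd_assoc _ _ _).trans (pl_snd_assoc _ _ _)

theorem cons_face_zero (n : ℕ) : cons s n ≫ idp V (face U 0) = 𝟙 _ :=
  prod_hom_ext (by simp [cons_fst]) (tp_hom_ext _ fun j => by simp [cons_succ])

theorem cons_face_succ (n : ℕ) (i : Fin (n + 2)) :
    cons s (n + 1) ≫ idp V (face U i.succ) = idp V (face U i) ≫ cons s n :=
  prod_hom_ext (by simp [cons_fst]) (tp_hom_ext _ fun j => by
    refine Fin.cases ?_ (fun j => ?_) j <;> simp [cons_zero, cons_succ])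

theorem cons_face_one : cons s 0 ≫ idp V (face U 1) = EtOver.prodFst V (Tp U 0) ≫ pl (𝟙 V) s :=
  prod_hom_ext (by
      rw [Category.assoc, idp_fst, cons_fst, Category.assoc]
      exact ((congrArg (EtOver.prodFst V (Tp U 0) ≫ ·) (pl_fst _ _)).trans (Category.comp_id _)).symm) (tp_hom_ext _ fun j => by
    obtain rfl : j = 0 := Fin.fin_one_eq_zero j
    have h : (1 : Fin 2).succAbove 0 = 0 := rfl
    simp only [Category.assoc, idp_snd_assoc, face_π, h, cons_zero]
    exact (congrArg (EtOver.prodFst V (Tp U 0) ≫ ·)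
      ((pl_snd_assoc _ _ _).trans (Category.comp_id s))).symm)

theorem res_cons_dd_succ {n : ℕ} (x : Sec M V (Tp U (n + 1))) :
    res M (cons s (n + 1)) (dA x) =
      x - dA (res M (cons s n) x) := by
  rw [dd_apply, map_sum, Fin.sum_univ_succ, map_zsmul, ← res_comp, cons_face_zero, res_id, Fin.val_zero, pow_zero,
    one_smul, dd_apply, sub_eq_add_neg, ← Finset.sum_neg_distrib]
  congr 1
  refine Finset.sum_congr rfl fun i _ => ?_
  rw [map_zsmul, ← res_comp, cons_face_succ, res_comp, Fin.val_succ, pow_succ', mul_smul, neg_one_smul]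

theorem res_cons_dd_zero (x : Sec M V (Tp U 0)) :
    res M (cons s 0) (dA x) =
      x - res M (EtOver.prodFst V (Tp U 0)) (res M (pl (𝟙 V) s) x) := by
  rw [dd_apply, map_sum, Fin.sum_univ_two, map_zsmul, map_zsmul, ← res_comp, ← res_comp, cons_face_zero,
    cons_face_one, res_id, ← res_comp, sub_eq_add_neg]
  simp only [Fin.val_zero, Fin.val_one, pow_zero, pow_one, one_smul, neg_smul]
  rfl

theorem inK_res_cons {n : ℕ} {x : Sec M V (Tp U (n + 1))} (hx : InK ε (n + 1) V x) :
    InK ε n V (res M (cons s n) x) := by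
  refine ⟨fun τ => ?_, fun a b hab => ?_⟩
  · let τ' := Equiv.Perm.decomposeFin.symm (0, τ)
    have hj : idp V (perm U τ) ≫ cons s n = cons s n ≫ idp V (perm U τ') :=
      prod_hom_ext (by simp [cons_fst]) (tp_hom_ext _ fun j => by
        refine Fin.cases ?_ (fun j => ?_) j <;> simp [τ', cons_zero, cons_succ])
    rw [← res_comp, hj, res_comp, hx.1, map_zsmul, Equiv.Perm.decomposeFin.symm_sign, if_pos rfl, one_mul]
  · have h0 := congrArg (res M (cons s n)) (hx.2 a.succ b.succ fun h => hab (Fin.succ_injective _ h))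
    rw [res_smul, map_zero, ← RingHom.comp_apply, ← γ_comp, γ_E, Category.assoc, Category.assoc, cons_succ,
      cons_succ, ← γ_E] at h0
    exact h0

end Contraction

theorem dd_res_fst (V : EtOver X) (z : sectModEt M V) :
    dA (res M (EtOver.prodFst V (Tp U 0)) z) = 0 := by
  rw [dd_apply, Fin.sum_univ_two, ← res_comp, ← res_comp, idp_fst, idp_fst]
  simp

theorem dd_natural {n : ℕ} {V V' : EtOver X} (g : V' ⟶ V) (x : Sec M V (Tp U n)) :
    dA (res M (pm (Tp U n) g) x) =
      res M (pm (Tp U (n + 1)) g) (dA x) :=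
  NatTrans.naturality_apply (dd M U n).hom g.op x

theorem eq_zero_of_res_cons {n : ℕ} {V : EtOver X} (y : Sec M V (Tp U (n + 1)))
    (h : res M (cons (EtOver.prodSnd V U) n) (res M (pm (Tp U (n + 1)) (EtOver.prodFst V U)) y) = 0) : y = 0 := by
  let q : EtOver.prodObj V (Tp U (n + 1)) ⟶ EtOver.prodObj (EtOver.prodObj V U) (Tp U n) :=
    pl (pl (EtOver.prodFst V _) (EtOver.prodSnd V _ ≫ tπ U (n + 1) 0)) (EtOver.prodSnd V _ ≫ face U 0)
  have hq : q ≫ cons (EtOver.prodSnd V U) n ≫ pm (Tp U (n + 1)) (EtOver.prodFst V U) = 𝟙 _ :=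
    prod_hom_ext (by simp [q, cons_fst_assoc]) (tp_hom_ext _ fun j => by
      refine Fin.cases ?_ (fun j => ?_) j <;> simp [q, cons_zero, cons_succ])
  have h2 := congrArg (res M q) h
  rw [map_zero, ← res_comp, ← res_comp] at h2
  rwa [show (q ≫ cons (EtOver.prodSnd V U) n) ≫ pm (Tp U (n + 1)) (EtOver.prodFst V U) = 𝟙 _ from
    (Category.assoc _ _ _).trans hq, res_id] at h2

theorem dd_dd_apply : ∀ {n : ℕ} {V : EtOver X} (x : Sec M V (Tp U n)),
    dA (dA x) = 0 := by
  intro n
  induction n with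
  | zero =>
    intro V x
    refine eq_zero_of_res_cons _ ?_
    rw [← dd_natural, ← dd_natural, res_cons_dd_succ, res_cons_dd_zero, dA_sub, dd_res_fst, sub_zero, sub_self]
  | succ n ih =>
    intro V x
    refine eq_zero_of_res_cons _ ?_
    rw [← dd_natural, ← dd_natural, res_cons_dd_succ, res_cons_dd_succ, dA_sub, ih, sub_zero, sub_self]

end Groth.Agent.QcohEt15.Alt
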