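import Mathlib.RingTheory.Invariant.Basic
import Mathlib.RingTheory.Ideal.GoingUp

/-!
# Traces on free parts of a finite group action
-/

universe u v

namespace Groth.Agent.QcohEt15.Alt

variable {B : Type u} [CommRing B] {G : Type v} [Group G] [Fintype G] (ρ : G →* (B →+* B))

theorem map_sum_orbit (g : G) (b : B) : ρ g (∑ σ, ρ σ b) = ∑ σ, ρ σ b := by
  rw [map_sum]
  exact Fintype.sum_equiv (Equiv.mulLeft g) _ _ fun σ => (by rw [Equiv.coe_mulLeft, map_mul]; rfl)

/-- An invariant idempotent supported on the free locus is a trace. -/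
theorem exists_sum_eq_idempotent {e : B} (he : IsIdempotentElem e) (hinv : ∀ g, ρ g e = e)
    (hfree : ∀ g : G, g ≠ 1 → ∀ P : Ideal B, P.IsPrime → e ∉ P → ∃ y, ρ g y - y ∉ P) :
    ∃ a : B, e * a = a ∧ ∑ σ, ρ σ a = e := by
  classical
  let S : Submodule B (G → B) := Submodule.span B (Set.range fun y : B => fun τ => ρ τ y)
  have hone : (1 : G → B) ∈ S := Submodule.subset_span ⟨1, funext fun τ => map_one _⟩
  have hmul : ∀ f g : G → B, f ∈ S → g ∈ S → f * g ∈ S := fun f g hf hg => by
    induction hf using Submodule.span_induction with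
    | zero => rw [zero_mul]; exact zero_mem _
    | add x x' _ _ hx hx' => rw [add_mul]; exact add_mem hx hx'
    | smul c x _ hx => rw [smul_mul_assoc]; exact Submodule.smul_mem _ c hx
    | mem x hx =>
      obtain ⟨y, rfl⟩ := hx
      induction hg using Submodule.span_induction with
      | zero => rw [mul_zero]; exact zero_mem _
      | add z z' _ _ hz hz' => rw [mul_add]; exact add_mem hz hz'
      | smul c z _ hz => rw [mul_smul_comm]; exact Submodule.smul_mem _ c hz
      | mem z hz =>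
        obtain ⟨y', rfl⟩ := hz
        exact Submodule.subset_span ⟨y * y', funext fun τ => map_mul _ _ _⟩
  have hsep : ∀ g : G, g ≠ 1 → ∃ f ∈ S, f g = 0 ∧ f 1 = e := fun g hg => by
    let I : Ideal B := Ideal.span (Set.range fun y => ρ g y - y)
    have heI : e ∈ I := by
      by_contra hne
      have hr : e ∉ I.radical := fun ⟨n, hn⟩ => by
        refine hne (?_)
        rcases n with _ | n
        · exact (Ideal.eq_top_iff_one I).2 (by simpa using hn) ▸ trivial
        · rwa [he.pow_succ_eq] at hn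
      rw [Ideal.radical_eq_sInf, Submodule.mem_sInf] at hr
      push_neg at hr
      obtain ⟨P, ⟨hIP, hP⟩, heP⟩ := hr
      obtain ⟨y, hy⟩ := hfree g hg P hP heP
      exact hy (hIP (Ideal.subset_span ⟨y, rfl⟩))
    suffices h : ∀ b ∈ I, ∃ f ∈ S, f g = 0 ∧ f 1 = b from h e heI
    intro b hb
    induction hb using Submodule.span_induction with
    | zero => exact ⟨0, zero_mem _, rfl, rfl⟩
    | add x x' _ _ hx hx' =>
      obtain ⟨f, hf, h₁, h₂⟩ := hx
      obtain ⟨f', hf', h₁', h₂'⟩ := hx'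
      exact ⟨f + f', add_mem hf hf', by simp [h₁, h₁'], by simp [h₂, h₂']⟩
    | smul c x _ hx =>
      obtain ⟨f, hf, h₁, h₂⟩ := hx
      exact ⟨c • f, Submodule.smul_mem _ c hf, by simp [h₁], by simp [h₂]⟩
    | mem x hx =>
      obtain ⟨y, rfl⟩ := hx
      exact ⟨ρ g y • (1 : G → B) - fun τ => ρ τ y, sub_mem (Submodule.smul_mem _ _ hone)
        (Submodule.subset_span ⟨y, rfl⟩), by simp, by simp⟩
  choose! f hfS hfg hf1 using hsep
  have hprod : e • ∏ g ∈ Finset.univ.erase (1 : G), f g ∈ S := by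
    refine Submodule.smul_mem _ e ?_
    refine Finset.prod_induction _ (· ∈ S) (fun a b => hmul a b) hone fun g hg => hfS g (Finset.ne_of_mem_erase hg)
  let I : Ideal B := Ideal.span (Set.range fun y : B => ∑ σ, ρ σ y)
  have hSI : ∀ φ ∈ S, ∑ σ, φ σ ∈ I := fun φ hφ => by
    induction hφ using Submodule.span_induction with
    | zero => simp
    | add x x' _ _ hx hx' => simp only [Pi.add_apply, Finset.sum_add_distrib]; exact add_mem hx hx'
    | smul c x _ hx => simp only [Pi.smul_apply, smul_eq_mul, ← Finset.mul_sum]; exact I.mul_mem_left c hx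
    | mem x hx => obtain ⟨y, rfl⟩ := hx; exact Ideal.subset_span ⟨y, rfl⟩
  have heI : e ∈ I := by
    have h := hSI _ hprod
    rw [Finset.sum_eq_single (1 : G) (fun σ _ hσ => by
      rw [Pi.smul_apply, Finset.prod_apply, Finset.prod_eq_zero (f := fun c => f c σ)
        (Finset.mem_erase.2 ⟨hσ, Finset.mem_univ _⟩) (hfg σ hσ), smul_zero]) (by simp)] at h
    rw [Pi.smul_apply, Finset.prod_apply, Finset.prod_congr rfl (fun g hg => hf1 g (Finset.ne_of_mem_erase hg)),
      smul_eq_mul, Finset.prod_const] at h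
    revert h
    generalize (Finset.univ.erase (1 : G)).card = m
    intro h
    rwa [show e * e ^ m = e by rw [← pow_succ', he.pow_succ_eq]] at h
  -- descend to invariants
  letI : MulSemiringAction G B := MulSemiringAction.compHom B ρ
  have hρ : ∀ (g : G) (b : B), g • b = ρ g b := fun _ _ => rfl
  let A := FixedPoints.subring B G
  have : Algebra.IsInvariant A B G := ⟨fun b hb => ⟨⟨b, hb⟩, rfl⟩⟩
  have : Algebra.IsIntegral A B := Algebra.IsInvariant.isIntegral A B G
  let T : Ideal A :=
    { carrier := {a | ∃ y : B, e * y = y ∧ ∑ σ, ρ σ y = e * a.1}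
      add_mem' := fun {a b} ⟨y, hy, hy'⟩ ⟨z, hz, hz'⟩ => ⟨y + z, by rw [mul_add, hy, hz], by
        simp only [map_add, Finset.sum_add_distrib, hy', hz', Subring.coe_add, mul_add]⟩
      zero_mem' := ⟨0, by simp, by simp⟩
      smul_mem' := fun c a ⟨y, hy, hy'⟩ => ⟨c.1 * y, by rw [mul_left_comm, hy], by
        simp only [map_mul, show ∀ σ, ρ σ c.1 = c.1 from fun σ => c.2 σ, ← Finset.mul_sum, hy', smul_eq_mul,
          Subring.coe_mul]
        ring⟩ }
  have hI : I ≤ (T.map (algebraMap A B)) := by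
    rw [Ideal.span_le]
    rintro _ ⟨y, rfl⟩
    have hy : ∀ g : G, g • (∑ σ, ρ σ y) = ∑ σ, ρ σ y := fun g => map_sum_orbit ρ g y
    have hT : (⟨_, hy⟩ : A) ∈ T := ⟨e * y, by rw [← mul_assoc, he.eq], by
      simp only [map_mul, hinv, ← Finset.mul_sum]⟩
    exact Ideal.mem_map_of_mem (algebraMap A B) hT
  let e' : A := ⟨e, hinv⟩
  suffices h : e' ∈ T by
    obtain ⟨y, hy, hy'⟩ := h
    exact ⟨y, hy, hy'.trans he.eq⟩
  by_contra hne
  have hr : e' ∉ T.radical := fun ⟨n, hn⟩ => by
    rcases n with _ | n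
    · exact hne ((Ideal.eq_top_iff_one T).2 (by simpa using hn) ▸ trivial)
    · rw [(show IsIdempotentElem e' from Subtype.ext he).pow_succ_eq] at hn
      exact hne hn
  rw [Ideal.radical_eq_sInf, Submodule.mem_sInf] at hr
  push_neg at hr
  obtain ⟨p, ⟨hTp, hp⟩, hep⟩ := hr
  obtain ⟨Q, -, hQ, hQp⟩ := Ideal.exists_ideal_over_prime_of_isIntegral p (⊥ : Ideal B) (by
    rintro a ha
    rw [Ideal.mem_comap, Ideal.mem_bot] at ha
    rw [show a = 0 from Subtype.ext ha]
    exact p.zero_mem)
  refine hep ?_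
  rw [← hQp]
  exact Ideal.map_le_iff_le_comap.2 (hTp.trans hQp.ge) (hI heI)

end Groth.Agent.QcohEt15.Alt
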