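import Groth.Agent.Lib.QcohEt15.Alt.Tuples
import Groth.Agent.Lib.QcohEt15.Alt.Trace
import Groth.Agent.Lib.QcohEt15.SuppAnn
import Mathlib.AlgebraicGeometry.Morphisms.FlatMono
import Mathlib.AlgebraicGeometry.Morphisms.Separated

/-!
# The locus of pairwise distinct tuples
-/

universe u

set_option backward.isDefEq.respectTransparency false
set_option backward.isDefEq.respectTransparency.types false

open CategoryTheory CategoryTheory.Limits AlgebraicGeometry Opposite

namespace Groth.Agent.QcohEt15.Alt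

open AlgSp Groth.Agent.AlgSpEt Groth.Agent.WeakAssEt15

variable {S : Scheme.{u}} {X : Sp S} {U : EtOver X}

/-- An idempotent cutting out the diagonal. -/
def IsDiag (ε : Γo (EtOver.prodObj U U)) : Prop :=
  IsIdempotentElem ε ∧
    ((EtOver.prodObj U U).obj.left.left.basicOpen ε : Set ↥(EtOver.prodObj U U).obj.left.left) =
      Set.range (pl (𝟙 U) (𝟙 U)).hom.left.left

theorem isOpenImmersion_diag : IsOpenImmersion (pl (𝟙 U) (𝟙 U)).hom.left.left := by
  have := EtOver.etale_left (pl (𝟙 U) (𝟙 U))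
  have h : (pl (𝟙 U) (𝟙 U)).hom.left.left ≫ (EtOver.prodFst U U).hom.left.left = 𝟙 _ :=
    congrArg (fun k => k.hom.left.left) (pl_fst (𝟙 U) (𝟙 U))
  have : Mono (pl (𝟙 U) (𝟙 U)).hom.left.left := mono_of_mono_fac h
  exact IsOpenImmersion.of_flat_of_mono _

theorem map_pl_fst {T A B : EtOver X} (p : FieldPt X) (a : T ⟶ A) (b : T ⟶ B) (l : (FieldPt.liftsTo p).obj T) :
    (FieldPt.liftsTo p).map (EtOver.prodFst A B) ((FieldPt.liftsTo p).map (pl a b) l) =
      (FieldPt.liftsTo p).map a l := by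
  rw [← Functor.map_comp_apply, pl_fst]

theorem map_pl_snd {T A B : EtOver X} (p : FieldPt X) (a : T ⟶ A) (b : T ⟶ B) (l : (FieldPt.liftsTo p).obj T) :
    (FieldPt.liftsTo p).map (EtOver.prodSnd A B) ((FieldPt.liftsTo p).map (pl a b) l) =
      (FieldPt.liftsTo p).map b l := by
  rw [← Functor.map_comp_apply, pl_snd]

theorem exists_isDiag [S.IsSeparated] (hsep : IsSeparatedSp X) [IsAffine U.obj.left.left] :
    ∃ ε : Γo (EtOver.prodObj U U), IsDiag ε := by
  have := isAffine_prodObj hsep U U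
  have := isOpenImmersion_diag (U := U)
  have h : (pl (𝟙 U) (𝟙 U)).hom.left.left ≫ (EtOver.prodFst U U).hom.left.left = 𝟙 _ :=
    congrArg (fun k => k.hom.left.left) (pl_fst (𝟙 U) (𝟙 U))
  have : IsClosedImmersion ((pl (𝟙 U) (𝟙 U)).hom.left.left ≫ (EtOver.prodFst U U).hom.left.left) := by
    rw [h]; infer_instance
  have := IsClosedImmersion.of_comp (pl (𝟙 U) (𝟙 U)).hom.left.left (EtOver.prodFst U U).hom.left.left
  let P := (EtOver.prodObj U U).obj.left.left
  have hP := isAffineOpen_top P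
  have hclopen : IsClopen (Set.range (pl (𝟙 U) (𝟙 U)).hom.left.left) :=
    ⟨(pl (𝟙 U) (𝟙 U)).hom.left.left.isClosedEmbedding.isClosed_range,
      (pl (𝟙 U) (𝟙 U)).hom.left.left.isOpenEmbedding.isOpen_range⟩
  obtain ⟨e, he, hs⟩ := PrimeSpectrum.exists_idempotent_basicOpen_eq_of_isClopen
    (hclopen.preimage hP.fromSpec.continuous)
  refine ⟨e, he, Set.ext fun x => ?_⟩
  obtain ⟨q, rfl⟩ : x ∈ Set.range hP.fromSpec := by rw [hP.range_fromSpec]; trivial
  refine Iff.trans ?_ (Set.ext_iff.1 hs q).symm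
  change q ∈ hP.fromSpec ⁻¹ᵁ P.basicOpen e ↔ _
  rw [hP.fromSpec_preimage_basicOpen]
  rfl

variable (ε : Γo (EtOver.prodObj U U))

/-- The function supported where two maps agree. -/
noncomputable def E {T : EtOver X} (a b : T ⟶ U) : Γo T := γ (pl a b) ε

theorem γ_E {T T' : EtOver X} (g : T' ⟶ T) (a b : T ⟶ U) : γ g (E ε a b) = E ε (g ≫ a) (g ≫ b) := by
  rw [E, E, ← RingHom.comp_apply, ← γ_comp,
    show g ≫ pl a b = pl (g ≫ a) (g ≫ b) from prod_hom_ext (by simp) (by simp)]

variable {ε} (hε : IsDiag ε)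

include hε

theorem isIdempotentElem_E {T : EtOver X} (a b : T ⟶ U) : IsIdempotentElem (E ε a b) := hε.1.map (γ (pl a b))

theorem eq_of_isUnit_E {T : EtOver X} {a b : T ⟶ U} (h : IsUnit (E ε a b)) : a = b := by
  have := isOpenImmersion_diag (U := U)
  let k := (pl a b).hom.left.left
  have hr : Set.range k ⊆ Set.range (pl (𝟙 U) (𝟙 U)).hom.left.left := by
    rintro _ ⟨x, rfl⟩
    rw [← hε.2]
    change x ∈ k ⁻¹ᵁ (EtOver.prodObj U U).obj.left.left.basicOpen ε
    rw [Scheme.preimage_basicOpen_top]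
    rw [T.obj.left.left.basicOpen_of_isUnit (f := k.appTop ε) h]
    trivial
  let m := IsOpenImmersion.lift (pl (𝟙 U) (𝟙 U)).hom.left.left k hr
  have hm : m ≫ (pl (𝟙 U) (𝟙 U)).hom.left.left = k := IsOpenImmersion.lift_fac _ _ hr
  refine EtOver.hom_ext _ _ (Over.OverMorphism.ext ?_)
  have h₁ : a.hom.left.left = m := by
    rw [show a.hom.left.left = k ≫ (EtOver.prodFst U U).hom.left.left from
      (congrArg (fun q => q.hom.left.left) (pl_fst a b)).symm, ← hm, Category.assoc,
      show (pl (𝟙 U) (𝟙 U)).hom.left.left ≫ (EtOver.prodFst U U).hom.left.left = 𝟙 _ from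
        congrArg (fun q => q.hom.left.left) (pl_fst (𝟙 U) (𝟙 U)), Category.comp_id]
  rw [h₁]
  rw [show b.hom.left.left = k ≫ (EtOver.prodSnd U U).hom.left.left from
      (congrArg (fun q => q.hom.left.left) (pl_snd a b)).symm, ← hm, Category.assoc,
      show (pl (𝟙 U) (𝟙 U)).hom.left.left ≫ (EtOver.prodSnd U U).hom.left.left = 𝟙 _ from
        congrArg (fun q => q.hom.left.left) (pl_snd (𝟙 U) (𝟙 U)), Category.comp_id]

theorem mem_basicOpen_E_of_map_eq (p : FieldPt X) {T : EtOver X} (l : (FieldPt.liftsTo p).obj T)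
    {a b : T ⟶ U} (h : (FieldPt.liftsTo p).map a l = (FieldPt.liftsTo p).map b l) :
    liftPt p l ∈ T.obj.left.left.basicOpen (E ε a b) := by
  have e : (FieldPt.liftsTo p).map (pl a b) l =
      (FieldPt.liftsTo p).map (pl (𝟙 U) (𝟙 U)) ((FieldPt.liftsTo p).map a l) := by
    apply (liftsProdEquiv p U U).injective
    change ((FieldPt.liftsTo p).map (EtOver.prodFst U U) _, (FieldPt.liftsTo p).map (EtOver.prodSnd U U) _) =
      ((FieldPt.liftsTo p).map (EtOver.prodFst U U) _, (FieldPt.liftsTo p).map (EtOver.prodSnd U U) _)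
    refine Prod.ext ((map_pl_fst p a b l).trans ?_) ((map_pl_snd p a b l).trans ?_)
    · exact ((map_pl_fst p _ _ _).trans (FunctorToTypes.map_id_apply _ _)).symm
    · exact h.symm.trans ((map_pl_snd p _ _ _).trans (FunctorToTypes.map_id_apply _ _)).symm
  have h2 := congrArg (liftPt p) e
  rw [liftPt_map, liftPt_map] at h2
  have h4 : (pl a b).hom.left.left (liftPt p l) ∈
      ((EtOver.prodObj U U).obj.left.left.basicOpen ε : Set ↥(EtOver.prodObj U U).obj.left.left) := by
    rw [hε.2, h2]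
    exact ⟨_, rfl⟩
  have h3 : liftPt p l ∈ (pl a b).hom.left.left ⁻¹ᵁ (EtOver.prodObj U U).obj.left.left.basicOpen ε := h4
  rw [Scheme.preimage_basicOpen_top] at h3
  exact h3

omit hε

/-- The function supported on pairwise distinct tuples. -/
noncomputable def dist (ε : Γo (EtOver.prodObj U U)) (n : ℕ) : Γo (Tp U n) :=
  ∏ ab ∈ (Finset.univ : Finset (Fin (n + 1))).offDiag, (1 - E ε (tπ U n ab.1) (tπ U n ab.2))

include hε

theorem isIdempotentElem_dist (n : ℕ) : IsIdempotentElem (dist ε n) :=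
  Finset.prod_induction _ IsIdempotentElem (fun _ _ ha hb => ha.mul hb) IsIdempotentElem.one
    fun _ _ => (isIdempotentElem_E hε _ _).one_sub

theorem E_mul_dist {n : ℕ} {a b : Fin (n + 1)} (hab : a ≠ b) : E ε (tπ U n a) (tπ U n b) * dist ε n = 0 := by
  rw [dist, ← Finset.mul_prod_erase _ _ (Finset.mem_offDiag.2 ⟨Finset.mem_univ _, Finset.mem_univ _, hab⟩ :
    (a, b) ∈ (Finset.univ : Finset (Fin (n + 1))).offDiag), ← mul_assoc, (isIdempotentElem_E hε _ _).mul_one_sub_self,
    zero_mul]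

omit hε in
theorem γ_perm_dist {n : ℕ} (σ : Equiv.Perm (Fin (n + 1))) : γ (perm U σ) (dist ε n) = dist ε n := by
  rw [dist, map_prod]
  refine Finset.prod_nbij' (fun ab => (σ ab.1, σ ab.2)) (fun ab => (σ.symm ab.1, σ.symm ab.2))
    (fun ab h => ?_) (fun ab h => ?_) (fun ab _ => by simp) (fun ab _ => by simp) fun ab _ => ?_
  · simpa using h
  · simpa using h
  · rw [map_sub, map_one, γ_E, perm_π, perm_π]

omit hε in
theorem dist_smul_eq {R N : Type*} [CommRing R] [AddCommGroup N] [Module R N] {n : ℕ} (φ : Γo (Tp U n) →+* R) (x : N)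
    (h : ∀ a b : Fin (n + 1), a ≠ b → φ (E ε (tπ U n a) (tπ U n b)) • x = 0) : φ (dist ε n) • x = x := by
  rw [dist, map_prod]
  exact Finset.prod_induction _ (fun r => r • x = x) (fun a b ha hb => by rw [mul_smul, hb, ha]) (one_smul _ _)
    fun ab hab => by rw [map_sub, map_one, sub_smul, one_smul, h ab.1 ab.2 (Finset.mem_offDiag.1 hab).2.2, sub_zero]

theorem injective_of_mem_basicOpen_dist (p : FieldPt X) {n : ℕ} (l : (FieldPt.liftsTo p).obj (Tp U n))
    (h : liftPt p l ∈ (Tp U n).obj.left.left.basicOpen (dist ε n)) :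
    Function.Injective fun j => (FieldPt.liftsTo p).map (tπ U n j) l := by
  intro a b hab
  by_contra hne
  have h1 := mem_basicOpen_E_of_map_eq hε p l hab
  have h2 : liftPt p l ∈ (Tp U n).obj.left.left.basicOpen (E ε (tπ U n a) (tπ U n b) * dist ε n) := by
    rw [Scheme.basicOpen_mul]; exact ⟨h1, h⟩
  rw [E_mul_dist hε hne, Scheme.basicOpen_zero] at h2
  exact h2

theorem exists_free {n : ℕ} [IsAffine (Tp U n).obj.left.left] {σ : Equiv.Perm (Fin (n + 1))} (hσ : σ ≠ 1)
    {P : Ideal (Γo (Tp U n))} (hP : P.IsPrime) (he : dist ε n ∉ P) : ∃ y, γ (perm U σ) y - y ∉ P := by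
  by_contra hc
  push_neg at hc
  obtain ⟨x, rfl⟩ := exists_point_of_prime P hP
  obtain ⟨p, hp, l, rfl⟩ := exists_geometric_lift (Tp U n) x
  obtain ⟨j, hj⟩ : ∃ j, σ j ≠ j := by
    by_contra h
    push_neg at h
    exact hσ (Equiv.ext h)
  have hl : (FieldPt.liftsTo p).map (perm U σ) l = l := by
    refine Subtype.ext (Over.OverMorphism.ext (ext_of_isAffine (CommRingCat.hom_ext (RingHom.ext fun y => ?_))))
    change (l.1.left ≫ (perm U σ).hom.left.left).appTop y = l.1.left.appTop y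
    rw [Scheme.Hom.comp_appTop, ← sub_eq_zero]
    change l.1.left.appTop (γ (perm U σ) y) - l.1.left.appTop y = 0
    rw [← map_sub]
    have hmem := hc y
    rw [liftPt, ← primeAtPt_comap l.1.left, Ideal.mem_comap] at hmem
    change l.1.left.appTop (γ (perm U σ) y - y) ∈ _ at hmem
    generalize l.1.left.appTop (γ (perm U σ) y - y) = z at hmem ⊢
    by_contra hz
    refine (isPrime_primeAtPt (Spec (CommRingCat.of p.K)) _).ne_top (Ideal.eq_top_of_isUnit_mem _ hmem ?_)
    have h1 : (Scheme.ΓSpecIso (CommRingCat.of p.K)).hom z ≠ 0 := fun h0 => hz (by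
      have := congrArg (Scheme.ΓSpecIso (CommRingCat.of p.K)).inv h0
      rwa [CategoryTheory.Iso.hom_inv_id_apply, map_zero] at this)
    have h2 := (Ne.isUnit h1).map (Scheme.ΓSpecIso (CommRingCat.of p.K)).inv.hom
    rwa [CategoryTheory.Iso.hom_inv_id_apply] at h2
  refine hj (injective_of_mem_basicOpen_dist hε p l ?_ ?_)
  · exact Classical.not_not.1 ((not_congr (mem_primeAtPt_iff_notMem_basicOpen _ _)).1 he)
  · change (FieldPt.liftsTo p).map (tπ U n (σ j)) l = (FieldPt.liftsTo p).map (tπ U n j) l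
    rw [← perm_π U σ j, Functor.map_comp_apply, hl]

theorem exists_trace [S.IsSeparated] (hsep : IsSeparatedSp X) [IsAffine U.obj.left.left] (n : ℕ) :
    ∃ a : Γo (Tp U n), dist ε n * a = a ∧
      ∑ σ : Equiv.Perm (Fin (n + 1)), γ (perm U σ) a = dist ε n := by
  have := isAffine_Tp U hsep n
  let ρ : Equiv.Perm (Fin (n + 1)) →* (Γo (Tp U n) →+* Γo (Tp U n)) :=
    { toFun := fun σ => γ (perm U σ)
      map_one' := by rw [perm_one]; exact RingHom.ext (γ_id _)
      map_mul' := fun σ τ => by rw [← perm_comp, γ_comp]; rfl }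
  exact exists_sum_eq_idempotent ρ (isIdempotentElem_dist hε n) γ_perm_dist
    fun σ hσ P hP he => exists_free hε hσ hP he

theorem dist_eq_zero [S.IsSeparated] (hsep : IsSeparatedSp X) [IsAffine U.obj.left.left] {d : ℕ}
    (hd : ∀ x : FieldPt X, x.IsGeometric → ENat.card ((FieldPt.liftsTo x).obj U) ≤ d) {n : ℕ} (hn : d ≤ n) :
    dist ε n = 0 := by
  have := isAffine_Tp U hsep n
  by_contra hne
  obtain ⟨P, hP, he⟩ : ∃ P : Ideal (Γo (Tp U n)), P.IsPrime ∧ dist ε n ∉ P := by
    by_contra hc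
    push_neg at hc
    obtain ⟨k, hk⟩ := nilpotent_iff_mem_prime.2 hc
    exact hne ((isIdempotentElem_dist hε n).eq_zero_of_isNilpotent ⟨k, hk⟩)
  obtain ⟨x, rfl⟩ := exists_point_of_prime P hP
  have hx := Classical.not_not.1 ((not_congr (mem_primeAtPt_iff_notMem_basicOpen _ _)).1 he)
  obtain ⟨p, hp, l, rfl⟩ := exists_geometric_lift (Tp U n) x
  have h := ENat.card_le_card_of_injective (injective_of_mem_basicOpen_dist hε p l hx)
  have h2 := h.trans (hd p hp)
  simp only [ENat.card_eq_coe_fintype_card, Fintype.card_fin, Nat.cast_le] at h2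
  omega

end Groth.Agent.QcohEt15.Alt
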