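import Groth.Agent.Lib.QcohEt15.Alt.Pow

/-!
# Cohomology of sheaves of sections on products
-/

universe u

set_option backward.isDefEq.respectTransparency false
set_option backward.isDefEq.respectTransparency.types false

open CategoryTheory CategoryTheory.Limits AlgebraicGeometry Opposite Abelian

namespace Groth.Agent.QcohEt15.Alt

open AlgSp Groth.Agent.AlgSpEt

variable {S : Scheme.{u}} {X : Sp S}

instance preservesLimitsOfSize_powF (W : EtOver X) : PreservesLimitsOfSize.{u + 1, u + 1} (powF W) where
  preservesLimitsOfShape {J} _ := by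
    have : PreservesLimitsOfShape J (powF W ⋙ sheafToPresheaf (etTop X) AddCommGrpCat.{u + 1}) :=
      inferInstanceAs (PreservesLimitsOfShape J (sheafToPresheaf (etTop X) AddCommGrpCat.{u + 1} ⋙
        (Functor.whiskeringLeft _ _ _).obj (pmF W).op))
    exact preservesLimitsOfShape_of_reflects_of_preserves (powF W) (sheafToPresheaf (etTop X) AddCommGrpCat.{u + 1})

theorem injective_powF (hX : IsAlgSpace X) (W : EtOver X) (I : AbEt X) [Injective I] :
    Injective ((powF W).obj I) := by
  have := mono_toGodement hX I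
  have hJ : Injective ((powF W).obj (godement hX I)) := by
    have : ∀ q : GeomPt X, Injective ((powF W).obj (sky hX q.1 q.2 (Injective.under (stalkEt q.1 I)))) := fun q =>
      Injective.of_iso (powSkyIso hX q.1 q.2 W _).symm (injective_sky hX q.1 q.2 _)
    exact Injective.of_iso (PreservesProduct.iso (powF W) fun q : GeomPt X => sky hX q.1 q.2 (Injective.under (stalkEt q.1 I))).symm
      inferInstance
  let r : Retract I (godement hX I) :=
    { i := toGodement hX I, r := Injective.factorThru (𝟙 I) (toGodement hX I), retract := Injective.comp_factorThru _ _ }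
  exact (r.map (powF W)).injective

instance additive_powF (W : EtOver X) : (powF W).Additive := Functor.additive_of_preserves_binary_products _

variable {W : EtOver X} [IsAffine W.obj.left.left]
  (hW : ∀ (V : EtOver X) [IsAffine V.obj.left.left], IsAffine (EtOver.prodObj V W).obj.left.left)

include hW in
theorem powSeq_shortExact {T : ShortComplex (AbEt X)} (hT : T.ShortExact) (h1 : AcycAff T.X₁) :
    (T.map (powF W)).ShortExact := by
  have : PreservesFiniteLimits (powF W) := PreservesLimitsOfSize.preservesFiniteLimits _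
  have h0 := (Functor.preservesFiniteLimits_tfae (powF W)).out 3 0
  have h := h0.1 inferInstance T hT
  have : Mono (T.map (powF W)).f := h.2
  have : Epi (T.map (powF W)).g := by
    refine (Sheaf.isLocallySurjective_iff_epi' _ _).1 ⟨fun {V} s => ?_⟩
    refine (etTop X).superset_covering ?_ (ofArrows_mem_etTop
      (fun O : V.obj.left.left.affineOpens => AlgSpEt14.openSub V O.1) (fun O => AlgSpEt14.openSubι V O.1) fun x => ?_)
    · rw [Sieve.generate_le_iff]
      rintro Z k ⟨O⟩
      have : IsAffine (AlgSpEt14.openSub V O.1).obj.left.left := O.2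
      have := hW (AlgSpEt14.openSub V O.1)
      exact surjective_of_acycAff hT h1 (EtOver.prodObj (AlgSpEt14.openSub V O.1) W) _
    · obtain ⟨O, hO, hxO, -⟩ := V.obj.left.left.isBasis_affineOpens.exists_subset_of_mem_open (Set.mem_univ x) isOpen_univ
      obtain ⟨O, hO', rfl⟩ := hO
      exact ⟨⟨O, hO'⟩, (AlgSpEt14.range_openSubι V O).ge hxO⟩
  exact { exact := h.1 }

/-- A compatible family from a section over the fixed object. -/
noncomputable def cPow (F : AbEt X) (W : EtOver X) (s : F.obj.obj (op W)) : cP X ⟶ ((powF W).obj F).obj where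
  app V := AddCommGrpCat.ofHom (((F.obj.map (EtOver.prodSnd V.unop W).op).hom).comp
    ((zmultiplesHom _ s).comp (AddEquiv.ulift.{0, u + 1}).toAddMonoidHom))
  naturality V V' g := ConcreteCategory.hom_ext _ _ fun z => by
    show F.obj.map (EtOver.prodSnd V'.unop W).op (z.down • s) =
      F.obj.map (pm W g.unop).op (F.obj.map (EtOver.prodSnd V.unop W).op (z.down • s))
    rw [← Functor.map_comp_apply, ← op_comp, pm_snd]

omit [IsAffine W.obj.left.left] in
theorem cP_eval (F : AbEt X) (φ : cP X ⟶ ((powF W).obj F).obj) (V : EtOver X) (z : ULift.{u + 1} ℤ) :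
    φ.app (op V) z = F.obj.map (EtOver.prodSnd V W).op
      (F.obj.map (pl (𝟙 W) (𝟙 W)).op (φ.app (op W) z)) := by
  have h1 : φ.app (op (EtOver.prodObj V W)) z = F.obj.map (pm W (EtOver.prodFst V W)).op (φ.app (op V) z) :=
    NatTrans.naturality_apply φ (EtOver.prodFst V W).op z
  have h2 : φ.app (op (EtOver.prodObj V W)) z = F.obj.map (pm W (EtOver.prodSnd V W)).op (φ.app (op W) z) :=
    NatTrans.naturality_apply φ (EtOver.prodSnd V W).op z
  let δ : EtOver.prodObj V W ⟶ EtOver.prodObj (EtOver.prodObj V W) W := pl (𝟙 _) (EtOver.prodSnd V W)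
  have e := congrArg (F.obj.map δ.op) (h1.symm.trans h2)
  rw [← Functor.map_comp_apply, ← Functor.map_comp_apply, ← op_comp, ← op_comp,
    show δ ≫ pm W (EtOver.prodFst V W) = 𝟙 _ from prod_hom_ext (by simp [δ]) (by simp [δ]),
    show δ ≫ pm W (EtOver.prodSnd V W) = EtOver.prodSnd V W ≫ pl (𝟙 W) (𝟙 W) from
      prod_hom_ext (by simp [δ]) (by simp [δ]), op_comp, Functor.map_comp_apply] at e
  exact (ConcreteCategory.congr_hom (F.obj.map_id _) _).symm.trans e

omit [IsAffine W.obj.left.left] in
theorem exists_cP_lift {G Q : AbEt X} (π : G ⟶ Q) (h : Function.Surjective (π.hom.app (op W)))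
    (φ : cP X ⟶ ((powF W).obj Q).obj) : ∃ ψ : cP X ⟶ ((powF W).obj G).obj, ψ ≫ ((powF W).map π).hom = φ := by
  obtain ⟨s, hs⟩ := h (Q.obj.map (pl (𝟙 W) (𝟙 W)).op (φ.app (op W) (ULift.up 1)))
  refine ⟨cPow G W s, NatTrans.ext (funext fun V => ConcreteCategory.hom_ext _ _ fun z => ?_)⟩
  show π.hom.app _ (G.obj.map (EtOver.prodSnd V.unop W).op (z.down • s)) = φ.app V z
  rw [NatTrans.naturality_apply, map_zsmul, hs, cP_eval Q φ V.unop z, ← map_zsmul (Q.obj.map (pl (𝟙 W) (𝟙 W)).op).hom,
    ← map_zsmul (φ.app (op W)).hom]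
  refine congrArg (fun a => Q.obj.map (EtOver.prodSnd V.unop W).op (Q.obj.map (pl (𝟙 W) (𝟙 W)).op (φ.app (op W) a))) ?_
  refine ULift.down_injective ?_
  show z.down • (1 : ℤ) = z.down
  simp

include hW in
theorem subsingleton_HEt_powF (hX : IsAlgSpace X) :
    ∀ (n : ℕ) (F : AbEt X), AcycAff F → Subsingleton (HEt X ((powF W).obj F) (n + 1)) := by
  intro n
  induction n with
  | zero =>
    intro F hF
    have hT := powSeq_shortExact hW (injSeq_shortExact F) hF
    have : Injective ((injSeq F).map (powF W)).X₂ := injective_powF hX W _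
    refine subsingleton_of_forall_eq 0 fun x => ?_
    obtain ⟨y, rfl⟩ := Ext.covariant_sequence_exact₁ _ hT x (Ext.eq_zero_of_injective _) (n₀ := 0) rfl
    obtain ⟨f, rfl⟩ := (Ext.mk₀_bijective _ _).2 y
    let A := sheafificationAdjunction (etTop X) AddCommGrpCat.{u + 1}
    obtain ⟨ψ, hψ⟩ := exists_cP_lift (injSeq F).g (surjective_of_acycAff (injSeq_shortExact F) hF W)
      (A.homEquiv (cP X) _ f)
    have hg : (A.homEquiv (cP X) ((injSeq F).map (powF W)).X₂).symm ψ ≫ ((injSeq F).map (powF W)).g = f := by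
      apply (A.homEquiv (cP X) _).injective
      rw [A.homEquiv_naturality_right, Equiv.apply_symm_apply]
      exact hψ
    rw [← hg, ← Ext.mk₀_comp_mk₀, Ext.comp_assoc_of_second_deg_zero, hT.comp_extClass, Ext.comp_zero]
  | succ n ih =>
    intro F hF
    have hT := powSeq_shortExact hW (injSeq_shortExact F) hF
    have : Injective ((injSeq F).map (powF W)).X₂ := injective_powF hX W _
    refine subsingleton_of_forall_eq 0 fun x => ?_
    obtain ⟨y, rfl⟩ := Ext.covariant_sequence_exact₁ _ hT x (Ext.eq_zero_of_injective _) (n₀ := n + 1) rfl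
    have : Subsingleton (HEt X ((injSeq F).map (powF W)).X₃ (n + 1)) := ih _ (acycAff_injSeq₃ hF)
    rw [Subsingleton.elim (α := HEt X ((injSeq F).map (powF W)).X₃ (n + 1)) y 0, Ext.zero_comp]

end Groth.Agent.QcohEt15.Alt
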