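import Groth.Agent.Lib.QcohEt15.Alt.Complex
import Groth.Agent.Lib.QcohEt15.Alt.PowCoh

/-!
# Vanishing in degrees at least the number of points of the geometric fibres
-/

universe u

set_option backward.isDefEq.respectTransparency false
set_option backward.isDefEq.respectTransparency.types false

open CategoryTheory CategoryTheory.Limits AlgebraicGeometry Opposite Abelian
open scoped Groth.Agent.QcohEt15

namespace Groth.Agent.QcohEt15.Alt

open AlgSp Groth.Agent.AlgSpEt

variable {S : Scheme.{u}} {X : Sp S}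

/-- Sections over an object. -/
noncomputable abbrev evF (V : EtOver X) : AbEt X ⥤ AddCommGrpCat.{u + 1} :=
  sheafToPresheaf (etTop X) AddCommGrpCat.{u + 1} ⋙ (evaluation _ _).obj (op V)

theorem kernel_sections {A B : AbEt X} (φ : A ⟶ B) (V : EtOver X) :
    Function.Injective ((kernel.ι φ).hom.app (op V)) ∧
      (∀ y, φ.hom.app (op V) ((kernel.ι φ).hom.app (op V) y) = 0) ∧
      ∀ x, φ.hom.app (op V) x = 0 → ∃ y, (kernel.ι φ).hom.app (op V) y = x := by
  have : (evF V).Additive := inferInstance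
  have hS : (ShortComplex.mk (kernel.ι φ) φ (kernel.condition φ)).Exact :=
    ShortComplex.exact_of_f_is_kernel _ (kernelIsKernel φ)
  have h := hS.map_of_mono_of_preservesKernel (evF V) inferInstance inferInstance
  refine ⟨?_, fun y => ?_, fun x hx => ?_⟩
  · exact (AddCommGrpCat.mono_iff_injective _).1 (inferInstanceAs (Mono ((evF V).map (kernel.ι φ))))
  · exact ConcreteCategory.congr_hom (((ShortComplex.mk (kernel.ι φ) φ (kernel.condition φ)).map (evF V)).zero) y
  · exact (ShortComplex.ab_exact_iff _).1 h x hx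

theorem ab_hom_ext {A B : AbEt X} {φ ψ : A ⟶ B} (h : ∀ V x, φ.hom.app (op V) x = ψ.hom.app (op V) x) : φ = ψ :=
  ObjectProperty.hom_ext _ (NatTrans.ext (funext fun V => ConcreteCategory.hom_ext _ _ (h V.unop)))

theorem subsingleton_HEt_of_retract {A B : AbEt X} (i : A ⟶ B) (r : B ⟶ A) (h : i ≫ r = 𝟙 A) (n : ℕ)
    [Subsingleton (HEt X B n)] : Subsingleton (HEt X A n) := by
  refine subsingleton_of_forall_eq 0 fun y => ?_
  rw [← Ext.comp_mk₀_id y, ← h, ← Ext.mk₀_comp_mk₀, ← Ext.comp_assoc_of_third_deg_zero,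
    Subsingleton.elim (α := HEt X B n) (Ext.comp y (Ext.mk₀ i) (add_zero n)) 0, Ext.zero_comp]

theorem subsingleton_HEt_of_isZero {A : AbEt X} (h : IsZero A) (n : ℕ) : Subsingleton (HEt X A n) := by
  refine subsingleton_of_forall_eq 0 fun y => ?_
  rw [← Ext.comp_mk₀_id y, h.eq_of_src (𝟙 A) 0, Ext.mk₀_zero, Ext.comp_zero]

variable {U : EtOver X} {ε : Γo (EtOver.prodObj U U)} (hε : IsDiag ε) (M : ModEt X) (a : ∀ n, Γo (Tp U n))
  (ha : ∀ n, dist ε n * a n = a n) (htr : ∀ n, ∑ σ : Equiv.Perm (Fin (n + 1)), γ (perm U σ) (a n) = dist ε n)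

/-- Alternating cochains. -/
noncomputable abbrev Kk (n : ℕ) : AbEt X := kernel (𝟙 (G M (Tp U n)) - proj M (a n))

/-- The inclusion of alternating cochains. -/
noncomputable abbrev κ (n : ℕ) : Kk M a n ⟶ G M (Tp U n) := kernel.ι _

/-- Alternating cocycles. -/
noncomputable abbrev Zz (n : ℕ) : AbEt X := kernel (κ M a n ≫ dd M U n)

/-- The value of an alternating cochain. -/
noncomputable def κA {n : ℕ} {V : EtOver X} (y : (Kk M a n).obj.obj (op V)) : Sec M V (Tp U n) :=
  (κ M a n).hom.app (op V) y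

theorem sub_proj_apply {n : ℕ} (V : EtOver X) (x : Sec M V (Tp U n)) :
    (𝟙 (G M (Tp U n)) - proj M (a n)).hom.app (op V) x = x - prA (a n) x := rfl

include hε ha in
theorem inK_κA {n : ℕ} {V : EtOver X} (y : (Kk M a n).obj.obj (op V)) : InK ε n V (κA M a y) := by
  have h := (kernel_sections (𝟙 (G M (Tp U n)) - proj M (a n)) V).2.1 y
  have h1 : κA M a y - prA (a n) (κA M a y) = 0 := (sub_proj_apply M a V (κA M a y)).symm.trans h
  rw [sub_eq_zero.1 h1]
  exact inK_proj hε (ha n) V _

include htr in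
theorem exists_κA {n : ℕ} {V : EtOver X} {x : Sec M V (Tp U n)} (hx : InK ε n V x) :
    ∃ y : (Kk M a n).obj.obj (op V), κA M a y = x :=
  (kernel_sections (𝟙 (G M (Tp U n)) - proj M (a n)) V).2.2 x (by
    refine (sub_proj_apply M a V x).trans ?_
    rw [show prA (a n) x = x from proj_of_inK (htr n) hx, sub_self])

include hε ha htr

theorem κ_dd_sub (n : ℕ) : (κ M a n ≫ dd M U n) ≫ (𝟙 _ - proj M (a (n + 1))) = 0 :=
  ab_hom_ext fun V y => by
    refine (sub_proj_apply M a V (dA (κA M a y))).trans ?_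
    rw [show prA (a (n + 1)) (dA (κA M a y)) = dA (κA M a y) from
      proj_of_inK (htr (n + 1)) (inK_dd hε (inK_κA hε M a ha y)), sub_self]
    rfl

/-- The differential of alternating cochains. -/
noncomputable def dK (n : ℕ) : Kk M a n ⟶ Kk M a (n + 1) :=
  kernel.lift _ (κ M a n ≫ dd M U n) (κ_dd_sub hε M a ha htr n)

theorem dK_κ (n : ℕ) : dK hε M a ha htr n ≫ κ M a (n + 1) = κ M a n ≫ dd M U n := kernel.lift_ι _ _ _

theorem dK_zero (n : ℕ) : dK hε M a ha htr n ≫ κ M a (n + 1) ≫ dd M U (n + 1) = 0 := by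
  rw [← Category.assoc, dK_κ, Category.assoc, show dd M U n ≫ dd M U (n + 1) = 0 from
    ab_hom_ext fun V x => dd_dd_apply (x : Sec M V (Tp U n)), comp_zero]

/-- The short sequences of alternating cocycles. -/
noncomputable def seq (n : ℕ) : ShortComplex (AbEt X) :=
  ShortComplex.mk (kernel.ι (κ M a n ≫ dd M U n))
    (kernel.lift (κ M a (n + 1) ≫ dd M U (n + 1)) (dK hε M a ha htr n) (dK_zero hε M a ha htr n))
    (by
      refine equalizer.hom_ext ?_
      rw [Category.assoc, kernel.lift_ι, zero_comp]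
      refine equalizer.hom_ext ?_
      change (kernel.ι _ ≫ dK hε M a ha htr n) ≫ κ M a (n + 1) = 0 ≫ κ M a (n + 1)
      rw [Category.assoc, dK_κ, kernel.condition, zero_comp])

omit hε ha htr in
theorem surjective_prodFst (hU : Function.Surjective (Points.ofPt U.obj.hom)) (V : EtOver X) :
    Function.Surjective (EtOver.prodFst V U).hom.left.left := fun x => by
  obtain ⟨p, hp, l, rfl⟩ := exists_geometric_lift V x
  obtain ⟨v, hv⟩ := hU (Points.mk p)
  obtain ⟨m, -⟩ := exists_lift_of_point p hp U v hv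
  obtain ⟨n, hn, -⟩ := exists_lift_prod p l m
  exact ⟨liftPt p n, (liftPt_map p _ n).symm.trans (congrArg (liftPt p) hn)⟩

theorem seq_shortExact (hU : Function.Surjective (Points.ofPt U.obj.hom)) (n : ℕ) :
    (seq hε M a ha htr n).ShortExact := by
  have : Mono (seq hε M a ha htr n).f := by
    dsimp only [seq]; infer_instance
  have hex : (seq hε M a ha htr n).Exact := by
    refine ShortComplex.exact_of_f_is_kernel _ (KernelFork.IsLimit.ofι' _ _ fun {W} k hk => ⟨kernel.lift _ k ?_,
      kernel.lift_ι _ _ _⟩)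
    rw [← dK_κ hε M a ha htr, ← kernel.lift_ι (κ M a (n + 1) ≫ dd M U (n + 1)) (dK hε M a ha htr n)
      (dK_zero hε M a ha htr n), ← Category.assoc, ← Category.assoc]
    exact (congrArg (fun t => (t ≫ kernel.ι _) ≫ κ M a (n + 1)) hk).trans (by rw [zero_comp, zero_comp])
  have : Epi (seq hε M a ha htr n).g := by
    refine (Sheaf.isLocallySurjective_iff_epi' _ _).1 ⟨fun {V} y => ?_⟩
    refine (etTop X).superset_covering ?_ (ofArrows_mem_etTop (fun _ : PUnit.{1} => EtOver.prodObj V U)
      (fun _ => EtOver.prodFst V U) fun x => ⟨⟨⟩, surjective_prodFst hU V x⟩)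
    rw [Sieve.generate_le_iff]
    rintro Z k ⟨⟩
    let φ := κ M a (n + 1) ≫ dd M U (n + 1)
    let y₁ : (Kk M a (n + 1)).obj.obj (op V) := (kernel.ι φ).hom.app (op V) y
    let x : Sec M V (Tp U (n + 1)) := κA M a y₁
    have hx : dA x = 0 := (kernel_sections φ V).2.1 y
    have hy₁ : ((κ M a (n + 1)).hom.app (op (EtOver.prodObj V U))
        ((Kk M a (n + 1)).obj.map (EtOver.prodFst V U).op y₁) : Sec M _ (Tp U (n + 1))) =
        res M (pm (Tp U (n + 1)) (EtOver.prodFst V U)) x :=
      NatTrans.naturality_apply (κ M a (n + 1)).hom (EtOver.prodFst V U).op y₁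
    have hx' : InK ε (n + 1) (EtOver.prodObj V U) (res M (pm (Tp U (n + 1)) (EtOver.prodFst V U)) x) :=
      hy₁ ▸ inK_κA hε M a ha _
    obtain ⟨w, hw⟩ := exists_κA M a htr (inK_res_cons (EtOver.prodSnd V U) hx')
    refine ⟨w, (kernel_sections φ (EtOver.prodObj V U)).1 ?_⟩
    have e1 := ConcreteCategory.congr_hom (congrArg (fun t => t.hom.app (op (EtOver.prodObj V U)))
      (kernel.lift_ι φ (dK hε M a ha htr n) (dK_zero hε M a ha htr n))) w
    refine e1.trans (Eq.trans ?_ (NatTrans.naturality_apply (kernel.ι φ).hom (EtOver.prodFst V U).op y).symm)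
    refine (kernel_sections (𝟙 (G M (Tp U (n + 1))) - proj M (a (n + 1))) (EtOver.prodObj V U)).1 ?_
    have e2 := ConcreteCategory.congr_hom (congrArg (fun t => t.hom.app (op (EtOver.prodObj V U)))
      (dK_κ hε M a ha htr n)) w
    refine e2.trans (Eq.trans ?_ hy₁.symm)
    change dA (κA M a w) = _
    have h := res_cons_dd_succ (EtOver.prodSnd V U) (res M (pm (Tp U (n + 1)) (EtOver.prodFst V U)) x)
    rw [dd_natural, hx, map_zero, map_zero, eq_comm, sub_eq_zero] at h
    rw [hw, ← h]
  exact { exact := hex }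

omit hε ha htr

/-- The augmentation. -/
noncomputable def aug (U : EtOver X) : (toAbEt X).obj M ⟶ G M (Tp U 0) :=
  ⟨{ app := fun V => AddCommGrpCat.ofHom (res M (EtOver.prodFst V.unop (Tp U 0)))
     naturality := fun V V' g => ConcreteCategory.hom_ext _ _ fun x => by
      show res M (EtOver.prodFst V'.unop (Tp U 0)) (res M g.unop x) =
        res M (pm (Tp U 0) g.unop) (res M (EtOver.prodFst V.unop (Tp U 0)) x)
      rw [← res_comp, ← res_comp, pm_fst] }⟩

variable (ε) in
theorem inK_aug (V : EtOver X) (z : sectModEt M V) : InK ε 0 V (res M (EtOver.prodFst V (Tp U 0)) z) := by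
  refine ⟨fun σ => ?_, fun a b h => absurd (Subsingleton.elim (α := Fin 1) a b) h⟩
  rw [show σ = 1 from Equiv.ext fun j => Subsingleton.elim (α := Fin 1) _ _, ← res_comp, idp_fst]
  simp

include htr

theorem aug_sub : aug M U ≫ (𝟙 (G M (Tp U 0)) - proj M (a 0)) = 0 :=
  ab_hom_ext fun V z => by
    refine (sub_proj_apply M a V (res M (EtOver.prodFst V (Tp U 0)) z)).trans ?_
    rw [show prA (a 0) _ = res M (EtOver.prodFst V (Tp U 0)) z from proj_of_inK (htr 0) (inK_aug ε M V z), sub_self]
    rfl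

include hε ha

theorem exists_iso_Zz_zero (hU : Function.Surjective (Points.ofPt U.obj.hom)) :
    Nonempty ((toAbEt X).obj M ≅ Zz M a 0) := by
  let η₁ : (toAbEt X).obj M ⟶ Kk M a 0 := kernel.lift _ (aug M U) (aug_sub M a htr)
  have hη₁ : η₁ ≫ κ M a 0 = aug M U := kernel.lift_ι _ _ _
  let η : (toAbEt X).obj M ⟶ Zz M a 0 := kernel.lift _ η₁ (by
    rw [← Category.assoc, hη₁]
    exact ab_hom_ext fun V z => dd_res_fst V z)
  have hη : ∀ V z, κA M a ((kernel.ι (κ M a 0 ≫ dd M U 0)).hom.app (op V) (η.hom.app (op V) z)) =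
      res M (EtOver.prodFst V (Tp U 0)) z := fun V z => by
    have e : (η ≫ kernel.ι (κ M a 0 ≫ dd M U 0)) ≫ κ M a 0 = aug M U := by rw [kernel.lift_ι, hη₁]
    exact ConcreteCategory.congr_hom (congrArg (fun t => t.hom.app (op V)) e) z
  have : Mono η := by
    refine Preadditive.mono_of_cancel_zero _ fun {W} g hg => ab_hom_ext fun V z => ?_
    have h0 : η.hom.app (op V) (g.hom.app (op V) z) = 0 :=
      ConcreteCategory.congr_hom (congrArg (fun t => t.hom.app (op V)) hg) z
    have h1 := hη V (g.hom.app (op V) z)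
    rw [h0, map_zero, κA, map_zero] at h1
    refine sections_ext_single M (EtOver.prodFst V U) ⟨surjective_prodFst hU V⟩ ?_
    exact (h1.symm.trans (map_zero _).symm)
  have : Epi η := by
    refine (Sheaf.isLocallySurjective_iff_epi' _ _).1 ⟨fun {V} y => ?_⟩
    refine (etTop X).superset_covering ?_ (ofArrows_mem_etTop (fun _ : PUnit.{1} => EtOver.prodObj V U)
      (fun _ => EtOver.prodFst V U) fun x => ⟨⟨⟩, surjective_prodFst hU V x⟩)
    rw [Sieve.generate_le_iff]
    rintro Z k ⟨⟩
    let φ := κ M a 0 ≫ dd M U 0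
    let y₁ : (Kk M a 0).obj.obj (op V) := (kernel.ι φ).hom.app (op V) y
    let x : Sec M V (Tp U 0) := κA M a y₁
    have hx : dA x = 0 := (kernel_sections φ V).2.1 y
    have hy₁ : ((κ M a 0).hom.app (op (EtOver.prodObj V U))
        ((Kk M a 0).obj.map (EtOver.prodFst V U).op y₁) : Sec M _ (Tp U 0)) =
        res M (pm (Tp U 0) (EtOver.prodFst V U)) x :=
      NatTrans.naturality_apply (κ M a 0).hom (EtOver.prodFst V U).op y₁
    let x' := res M (pm (Tp U 0) (EtOver.prodFst V U)) x
    refine ⟨res M (pl (𝟙 _) (EtOver.prodSnd V U)) x', (kernel_sections φ (EtOver.prodObj V U)).1 ?_⟩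
    refine Eq.trans ?_ (NatTrans.naturality_apply (kernel.ι φ).hom (EtOver.prodFst V U).op y).symm
    refine (kernel_sections (𝟙 (G M (Tp U 0)) - proj M (a 0)) (EtOver.prodObj V U)).1 ?_
    refine (hη _ _).trans (Eq.trans ?_ hy₁.symm)
    have h := res_cons_dd_zero (EtOver.prodSnd V U) x'
    rw [dd_natural, hx, map_zero, map_zero, eq_comm, sub_eq_zero] at h
    exact h.symm
  exact ⟨@asIso _ _ _ _ η (isIso_of_mono_of_epi η)⟩

theorem subsingleton_Zz (hU : Function.Surjective (Points.ofPt U.obj.hom)) {d : ℕ}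
    (h0 : ∀ n, d ≤ n → dist ε n = 0) (hac : ∀ n q, Subsingleton (HEt X (G M (Tp U n)) (q + 1))) :
    ∀ q n : ℕ, d ≤ q + n → Subsingleton (HEt X (Zz M a n) q) := by
  intro q
  induction q with
  | zero =>
    intro n hn
    have ha0 : a n = 0 := by rw [← ha n, h0 n (by omega), zero_mul]
    have hp : proj M (a n) = 0 := ab_hom_ext fun V x => by
      refine (proj_apply (a n) V x).trans ?_
      simp only [ha0, map_zero, zero_smul, smul_zero, Finset.sum_const_zero]
      rfl
    have hK : IsZero (Kk M a n) := by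
      refine (IsZero.iff_id_eq_zero _).2 ((cancel_mono (κ M a n)).1 ?_)
      have h1 := kernel.condition (𝟙 (G M (Tp U n)) - proj M (a n))
      rw [Preadditive.comp_sub, Category.comp_id, sub_eq_zero] at h1
      rw [Category.id_comp, zero_comp]
      exact h1.trans ((congrArg (κ M a n ≫ ·) hp).trans comp_zero)
    exact subsingleton_HEt_of_isZero (IsZero.of_mono (kernel.ι (κ M a n ≫ dd M U n)) hK) 0
  | succ q ih =>
    intro n hn
    have hpr : proj M (a n) ≫ proj M (a n) = proj M (a n) := ab_hom_ext fun V x => by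
      exact proj_of_inK (htr n) (inK_proj hε (ha n) V x)
    have : Subsingleton (HEt X (G M (Tp U n)) (q + 1)) := hac n q
    have hK : Subsingleton (HEt X (Kk M a n) (q + 1)) :=
      subsingleton_HEt_of_retract (κ M a n)
        (kernel.lift _ (proj M (a n)) (by rw [Preadditive.comp_sub, Category.comp_id, hpr, sub_self]))
        ((cancel_mono (κ M a n)).1 (by
          rw [Category.assoc, kernel.lift_ι, Category.id_comp]
          have h1 := kernel.condition (𝟙 (G M (Tp U n)) - proj M (a n))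
          rw [Preadditive.comp_sub, Category.comp_id, sub_eq_zero] at h1
          exact h1.symm)) _
    refine subsingleton_of_forall_eq 0 fun x => ?_
    have hT := seq_shortExact hε M a ha htr hU n
    have hx : Ext.comp x (Ext.mk₀ (seq hε M a ha htr n).f) (add_zero _) = 0 :=
      Subsingleton.elim (α := HEt X (Kk M a n) (q + 1)) _ _
    obtain ⟨y, rfl⟩ := Ext.covariant_sequence_exact₁ _ hT x hx (n₀ := q) rfl
    rw [(ih (n + 1) (by omega)).elim y 0, Ext.zero_comp]

omit hε ha htr

theorem subsingleton_HModEt [S.IsSeparated] (hX : IsAlgSpace X) (hsep : IsSeparatedSp X) (U : EtOver X)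
    [IsAffine U.obj.left.left] (hU : Function.Surjective (Points.ofPt U.obj.hom)) [M.IsQuasicoherent] (d : ℕ)
    (hd : ∀ x : FieldPt X, x.IsGeometric → ENat.card ((FieldPt.liftsTo x).obj U) ≤ d) (q : ℕ) (hq : d ≤ q) :
    Subsingleton (HModEt X M q) := by
  obtain ⟨ε, hε⟩ := exists_isDiag hsep (U := U)
  choose a ha htr using exists_trace hε hsep
  have hac : ∀ n k, Subsingleton (HEt X (G M (Tp U n)) (k + 1)) := fun n k =>
    have := isAffine_Tp U hsep n
    subsingleton_HEt_powF (fun V _ => isAffine_prodObj hsep V (Tp U n)) hX k _ acycAff_toAbEt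
  obtain ⟨e⟩ := exists_iso_Zz_zero hε M a ha htr hU
  have := subsingleton_Zz hε M a ha htr hU (fun n hn => dist_eq_zero hε hsep hd hn) hac q 0 (by omega)
  exact subsingleton_HEt_of_retract e.hom e.inv e.hom_inv_id q

end Groth.Agent.QcohEt15.Alt
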