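import Groth.Agent.Lib.QcohEt15.HPush

/-!
# Sheaves of sections on products with a fixed object
-/

universe u

set_option backward.isDefEq.respectTransparency false
set_option backward.isDefEq.respectTransparency.types false

open CategoryTheory CategoryTheory.Limits AlgebraicGeometry Opposite

namespace Groth.Agent.QcohEt15.Alt

open AlgSp Groth.Agent.AlgSpEt

variable {S : Scheme.{u}} {X : Sp S}

/-- A map into a product. -/
noncomputable def pl {T A B : EtOver X} (a : T ⟶ A) (b : T ⟶ B) : T ⟶ EtOver.prodObj A B :=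
  (EtOver.prodIsLimit A B).lift (BinaryFan.mk a b)

@[reassoc (attr := simp)]
theorem pl_fst {T A B : EtOver X} (a : T ⟶ A) (b : T ⟶ B) : pl a b ≫ EtOver.prodFst A B = a :=
  (EtOver.prodIsLimit A B).fac (BinaryFan.mk a b) ⟨.left⟩

@[reassoc (attr := simp)]
theorem pl_snd {T A B : EtOver X} (a : T ⟶ A) (b : T ⟶ B) : pl a b ≫ EtOver.prodSnd A B = b :=
  (EtOver.prodIsLimit A B).fac (BinaryFan.mk a b) ⟨.right⟩

theorem prod_hom_ext {T A B : EtOver X} {x y : T ⟶ EtOver.prodObj A B}
    (h₁ : x ≫ EtOver.prodFst A B = y ≫ EtOver.prodFst A B)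
    (h₂ : x ≫ EtOver.prodSnd A B = y ≫ EtOver.prodSnd A B) : x = y :=
  (EtOver.prodIsLimit A B).hom_ext fun j => by
    obtain ⟨j⟩ := j
    cases j
    · exact h₁
    · exact h₂

/-- The map of products induced by a map. -/
noncomputable def pm (W : EtOver X) {V V' : EtOver X} (g : V' ⟶ V) :
    EtOver.prodObj V' W ⟶ EtOver.prodObj V W :=
  pl (EtOver.prodFst V' W ≫ g) (EtOver.prodSnd V' W)

@[reassoc (attr := simp)]
theorem pm_fst (W : EtOver X) {V V' : EtOver X} (g : V' ⟶ V) :
    pm W g ≫ EtOver.prodFst V W = EtOver.prodFst V' W ≫ g := pl_fst _ _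

@[reassoc (attr := simp)]
theorem pm_snd (W : EtOver X) {V V' : EtOver X} (g : V' ⟶ V) :
    pm W g ≫ EtOver.prodSnd V W = EtOver.prodSnd V' W := pl_snd _ _

theorem pm_id (W V : EtOver X) : pm W (𝟙 V) = 𝟙 _ := prod_hom_ext (by simp) (by simp)

/-- Products with a fixed object. -/
noncomputable def pmF (W : EtOver X) : EtOver X ⥤ EtOver X where
  obj V := EtOver.prodObj V W
  map g := pm W g
  map_id V := pm_id W V
  map_comp g g' := prod_hom_ext (by simp) (by simp)

theorem isSheaf_pow (W : EtOver X) (F : AbEt X) : Presheaf.IsSheaf (etTop X) ((pmF W).op ⋙ F.obj) := by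
  rw [Presheaf.isSheaf_iff_isSheaf_forget _ _ (forget AddCommGrpCat.{u + 1}), isSheaf_iff_isSheaf_of_type]
  intro V R hR x hx
  let Rp : Sieve (EtOver.prodObj V W) := R.pullback (EtOver.prodFst V W)
  let y : Presieve.FamilyOfElements (F.obj ⋙ forget AddCommGrpCat.{u + 1}) Rp.arrows := fun Z k hk =>
    F.obj.map (pl (𝟙 Z) (k ≫ EtOver.prodSnd V W)).op (x (k ≫ EtOver.prodFst V W) hk)
  have hy : y.Compatible := by
    intro Z₁ Z₂ T g₁ g₂ k₁ k₂ h₁ h₂ e
    have hxc := hx g₁ g₂ h₁ h₂ (by rw [← Category.assoc, e, Category.assoc])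
    change F.obj.map g₁.op (F.obj.map _ _) = F.obj.map g₂.op (F.obj.map _ _)
    rw [← Functor.map_comp_apply, ← Functor.map_comp_apply, ← op_comp, ← op_comp]
    have hf : ∀ {Z : EtOver X} (g : T ⟶ Z) (k : Z ⟶ EtOver.prodObj V W),
        g ≫ pl (𝟙 Z) (k ≫ EtOver.prodSnd V W) = pl (𝟙 T) ((g ≫ k) ≫ EtOver.prodSnd V W) ≫ pm W g :=
      fun g k => prod_hom_ext (by simp) (by simp)
    rw [hf, hf, e, op_comp, op_comp, Functor.map_comp_apply, Functor.map_comp_apply]
    exact congrArg _ hxc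
  obtain ⟨s, hs, hu⟩ := isSheaf_type F Rp ((etTop X).pullback_stable _ hR) y hy
  refine ⟨s, fun Z g hg => ?_, fun s' hs' => hu s' fun Z k hk => ?_⟩
  · have hg' : R (EtOver.prodFst Z W ≫ g) := R.downward_closed hg _
    have hk : Rp (pm W g) := by
      change R (pm W g ≫ EtOver.prodFst V W)
      rwa [pm_fst]
    refine (hs (pm W g) hk).trans ?_
    change F.obj.map _ (x _ _) = x g hg
    have h2 : x (pm W g ≫ EtOver.prodFst V W) hk =
        F.obj.map (pm W (EtOver.prodFst Z W)).op (x g hg) := by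
      have hxc := hx (𝟙 _) (EtOver.prodFst Z W) hk hg (by rw [Category.id_comp, pm_fst])
      change F.obj.map (pm W (𝟙 _)).op _ = F.obj.map _ _ at hxc
      rw [pm_id, op_id, CategoryTheory.Functor.map_id] at hxc
      exact hxc
    rw [h2]
    refine (ConcreteCategory.congr_hom (F.obj.map_comp (pm W (EtOver.prodFst Z W)).op
      (pl (𝟙 (EtOver.prodObj Z W)) (pm W g ≫ EtOver.prodSnd V W)).op).symm (x g hg)).trans ?_
    rw [← op_comp, show pl (𝟙 (EtOver.prodObj Z W)) (pm W g ≫ EtOver.prodSnd V W) ≫ pm W (EtOver.prodFst Z W) = 𝟙 _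
        from prod_hom_ext (by simp) (by simp)]
    exact ConcreteCategory.congr_hom (F.obj.map_id _) (x g hg)
  · change F.obj.map k.op s' = F.obj.map _ (x _ _)
    rw [← hs' _ hk]
    change _ = F.obj.map _ (F.obj.map (pm W (k ≫ EtOver.prodFst V W)).op s')
    rw [← Functor.map_comp_apply, ← op_comp]
    refine congrArg (fun t => F.obj.map t.op s') (prod_hom_ext ?_ ?_) <;> simp

/-- Sections on products with a fixed object, as a functor of sheaves. -/
noncomputable def powF (W : EtOver X) : AbEt X ⥤ AbEt X where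
  obj F := ⟨(pmF W).op ⋙ F.obj, isSheaf_pow W F⟩
  map φ := ⟨Functor.whiskerLeft (pmF W).op φ.hom⟩

/-- Change of the fixed object. -/
noncomputable def powMap (F : AbEt X) {W W' : EtOver X} (m : W' ⟶ W) : (powF W).obj F ⟶ (powF W').obj F :=
  ⟨{ app := fun V => F.obj.map (pl (EtOver.prodFst V.unop W') (EtOver.prodSnd V.unop W' ≫ m)).op
     naturality := fun V V' g => by
      change F.obj.map _ ≫ F.obj.map _ = F.obj.map _ ≫ F.obj.map _
      rw [← Functor.map_comp, ← Functor.map_comp]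
      refine congrArg F.obj.map (Quiver.Hom.unop_inj ?_)
      change pl _ _ ≫ pm W g.unop = pm W' g.unop ≫ pl _ _
      exact prod_hom_ext (by simp) (by simp) }⟩

theorem pl_pl {T A B B' : EtOver X} (a : T ⟶ A) (b : T ⟶ B) (m : B ⟶ B') :
    pl a b ≫ pl (EtOver.prodFst A B) (EtOver.prodSnd A B ≫ m) = pl a (b ≫ m) :=
  prod_hom_ext (by simp) (by simp)

theorem powMap_comp (F : AbEt X) {W W' W'' : EtOver X} (m : W' ⟶ W) (m' : W'' ⟶ W') :
    powMap F m ≫ powMap F m' = powMap F (m' ≫ m) := by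
  refine ObjectProperty.hom_ext _ (NatTrans.ext (funext fun V => ?_))
  change F.obj.map _ ≫ F.obj.map _ = F.obj.map _
  rw [← Functor.map_comp, ← op_comp]
  refine congrArg (fun t => F.obj.map (Quiver.Hom.op t)) ((pl_pl _ _ m).trans ?_)
  rw [Category.assoc]

theorem powMap_id (F : AbEt X) (W : EtOver X) : powMap F (𝟙 W) = 𝟙 _ := by
  refine ObjectProperty.hom_ext _ (NatTrans.ext (funext fun V => ?_))
  change F.obj.map _ = 𝟙 _
  rw [show pl (EtOver.prodFst V.unop W) (EtOver.prodSnd V.unop W ≫ 𝟙 W) = 𝟙 _ from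
    prod_hom_ext ((pl_fst _ _).trans (Category.id_comp _).symm)
      ((pl_snd _ _).trans ((Category.comp_id _).trans (Category.id_comp _).symm))]
  exact CategoryTheory.Functor.map_id _ _

section Sky

variable (hX : IsAlgSpace X) (p : FieldPt X) (hp : p.IsGeometric) (W : EtOver X)

/-- Lifts to a product. -/
noncomputable def liftsProdEquiv (V : EtOver X) :
    (FieldPt.liftsTo p).obj (EtOver.prodObj V W) ≃ (FieldPt.liftsTo p).obj V × (FieldPt.liftsTo p).obj W :=
  Equiv.ofBijective (fun l => ((FieldPt.liftsTo p).map (EtOver.prodFst V W) l,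
      (FieldPt.liftsTo p).map (EtOver.prodSnd V W) l))
    ⟨fun l l' h => Subtype.ext (Functor.relativelyRepresentable.hom_ext' _
        (congrArg Subtype.val (congrArg Prod.snd h)) (congrArg Subtype.val (congrArg Prod.fst h))),
      fun ab => by
        obtain ⟨l, h₁, h₂⟩ := exists_lift_prod p ab.1 ab.2
        exact ⟨l, Prod.ext h₁ h₂⟩⟩

theorem liftsProdEquiv_symm_fst (V : EtOver X) (l : (FieldPt.liftsTo p).obj V) (m : (FieldPt.liftsTo p).obj W) :
    (FieldPt.liftsTo p).map (EtOver.prodFst V W) ((liftsProdEquiv p W V).symm (l, m)) = l :=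
  congrArg Prod.fst ((liftsProdEquiv p W V).apply_symm_apply (l, m))

theorem liftsProdEquiv_symm_map {V V' : EtOver X} (g : V' ⟶ V) (l : (FieldPt.liftsTo p).obj V')
    (m : (FieldPt.liftsTo p).obj W) :
    (FieldPt.liftsTo p).map (pm W g) ((liftsProdEquiv p W V').symm (l, m)) =
      (liftsProdEquiv p W V).symm ((FieldPt.liftsTo p).map g l, m) := by
  apply (liftsProdEquiv p W V).injective
  rw [Equiv.apply_symm_apply]
  have h := (liftsProdEquiv p W V').apply_symm_apply (l, m)
  generalize (liftsProdEquiv p W V').symm (l, m) = n at h ⊢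
  change ((FieldPt.liftsTo p).map (EtOver.prodFst V W) ((FieldPt.liftsTo p).map (pm W g) n),
    (FieldPt.liftsTo p).map (EtOver.prodSnd V W) ((FieldPt.liftsTo p).map (pm W g) n)) = _
  rw [← Functor.map_comp_apply, ← Functor.map_comp_apply, pm_fst, pm_snd, Functor.map_comp_apply]
  exact congrArg (fun q : _ × _ => ((FieldPt.liftsTo p).map g q.1, q.2)) h

variable (D : AddCommGrpCat.{u + 1})

/-- The value of the skyscraper on a product. -/
noncomputable def skyProdIso (V : EtOver X) :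
    (∏ᶜ fun _ : (FieldPt.liftsTo p).obj (EtOver.prodObj V W) => D) ≅
      ∏ᶜ fun _ : (FieldPt.liftsTo p).obj V => ∏ᶜ fun _ : (FieldPt.liftsTo p).obj W => D where
  hom := Pi.lift fun l => Pi.lift fun m => Pi.π _ ((liftsProdEquiv p W V).symm (l, m))
  inv := Pi.lift fun n => Pi.π _ ((liftsProdEquiv p W V) n).1 ≫ Pi.π _ ((liftsProdEquiv p W V) n).2
  hom_inv_id := Pi.hom_ext _ _ fun n => by simp
  inv_hom_id := Pi.hom_ext _ _ fun l => Pi.hom_ext _ _ fun m => by simp

/-- Skyscrapers are stable under the construction. -/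
noncomputable def powSkyIso :
    (powF W).obj (sky hX p hp D) ≅ sky hX p hp (∏ᶜ fun _ : (FieldPt.liftsTo p).obj W => D) :=
  (fullyFaithfulSheafToPresheaf _ _).preimageIso (NatIso.ofComponents (fun V => skyProdIso p W D V.unop)
    fun {V V'} g => by
      refine Pi.hom_ext _ _ fun l => Pi.hom_ext _ _ fun m => ?_
      change ((Pi.lift fun n => Pi.π _ ((FieldPt.liftsTo p).map (pm W g.unop) n)) ≫
          (skyProdIso p W D V'.unop).hom) ≫ Pi.π _ l ≫ Pi.π _ m =
        ((skyProdIso p W D V.unop).hom ≫ Pi.lift fun n => Pi.π _ ((FieldPt.liftsTo p).map g.unop n)) ≫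
          Pi.π _ l ≫ Pi.π _ m
      simp only [skyProdIso, Category.assoc, Pi.lift_π, Pi.lift_π_assoc]
      exact congrArg _ (liftsProdEquiv_symm_map p W g.unop l m))

end Sky

end Groth.Agent.QcohEt15.Alt
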