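import Groth.Agent.Lib.QcohEt15.Alt.Pow
import Groth.Agent.Lib.AlgSpace.SepAffine
import Mathlib.GroupTheory.Perm.Fin

/-!
# Fibre powers over the space
-/

universe u

set_option backward.isDefEq.respectTransparency false
set_option backward.isDefEq.respectTransparency.types false

open CategoryTheory CategoryTheory.Limits AlgebraicGeometry Opposite

namespace Groth.Agent.QcohEt15.Alt

open AlgSp Groth.Agent.AlgSpEt

variable {S : Scheme.{u}} {X : Sp S} (U : EtOver X)

/-- Fibre powers. -/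
noncomputable def Tp : ℕ → EtOver X
  | 0 => U
  | n + 1 => EtOver.prodObj U (Tp n)

/-- Projections. -/
noncomputable def tπ : ∀ n, Fin (n + 1) → (Tp U n ⟶ U)
  | 0 => fun _ => 𝟙 U
  | n + 1 => Fin.cases (EtOver.prodFst U (Tp U n)) fun j => EtOver.prodSnd U (Tp U n) ≫ tπ n j

variable {U}

/-- A map given by its components. -/
noncomputable def tmk {T : EtOver X} : ∀ n, (Fin (n + 1) → (T ⟶ U)) → (T ⟶ Tp U n)
  | 0 => fun f => f 0
  | n + 1 => fun f => pl (f 0) (tmk n fun j => f j.succ)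

theorem tπ_succ_zero (n : ℕ) : tπ U (n + 1) 0 = EtOver.prodFst U (Tp U n) := rfl

theorem tπ_succ_succ (n : ℕ) (j : Fin (n + 1)) : tπ U (n + 1) j.succ = EtOver.prodSnd U (Tp U n) ≫ tπ U n j := rfl

@[reassoc (attr := simp)]
theorem tmk_π {T : EtOver X} : ∀ n (f : Fin (n + 1) → (T ⟶ U)) (j : Fin (n + 1)), tmk n f ≫ tπ U n j = f j
  | 0, f, j => by
    obtain rfl : j = 0 := Fin.fin_one_eq_zero j
    exact Category.comp_id _
  | n + 1, f, j => by
    refine Fin.cases ?_ (fun j => ?_) j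
    · rw [tπ_succ_zero]; exact pl_fst _ _
    · rw [tπ_succ_succ]
      change pl _ _ ≫ EtOver.prodSnd U (Tp U n) ≫ tπ U n j = _
      rw [pl_snd_assoc, tmk_π]

theorem tp_hom_ext {T : EtOver X} : ∀ n {x y : T ⟶ Tp U n}, (∀ j, x ≫ tπ U n j = y ≫ tπ U n j) → x = y
  | 0, x, y, h => by
    have h0 := h 0
    exact (Category.comp_id _).symm.trans (h0.trans (Category.comp_id _))
  | n + 1, x, y, h => by
    refine prod_hom_ext (h 0) (tp_hom_ext n fun j => ?_)
    rw [Category.assoc, Category.assoc]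
    exact h j.succ

variable (U)

/-- Permutation of the factors. -/
noncomputable def perm {n : ℕ} (σ : Equiv.Perm (Fin (n + 1))) : Tp U n ⟶ Tp U n :=
  tmk n fun j => tπ U n (σ j)

/-- Omission of a factor. -/
noncomputable def face {n : ℕ} (i : Fin (n + 2)) : Tp U (n + 1) ⟶ Tp U n :=
  tmk n fun j => tπ U (n + 1) (i.succAbove j)

@[reassoc (attr := simp)]
theorem perm_π {n : ℕ} (σ : Equiv.Perm (Fin (n + 1))) (j : Fin (n + 1)) :
    perm U σ ≫ tπ U n j = tπ U n (σ j) := tmk_π _ _ _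

@[reassoc (attr := simp)]
theorem face_π {n : ℕ} (i : Fin (n + 2)) (j : Fin (n + 1)) :
    face U i ≫ tπ U n j = tπ U (n + 1) (i.succAbove j) := tmk_π _ _ _

theorem perm_one {n : ℕ} : perm U (1 : Equiv.Perm (Fin (n + 1))) = 𝟙 _ :=
  tp_hom_ext n fun j => by simp

theorem perm_comp {n : ℕ} (σ τ : Equiv.Perm (Fin (n + 1))) : perm U σ ≫ perm U τ = perm U (σ * τ) :=
  tp_hom_ext n fun j => by simp

theorem face_zero {n : ℕ} : face U (0 : Fin (n + 2)) = EtOver.prodSnd U (Tp U n) :=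
  tp_hom_ext n fun j => by rw [face_π, Fin.succAbove_zero, tπ_succ_succ]

/-- Omission of a point conjugates a permutation to a permutation. -/
theorem exists_perm_succAbove {n : ℕ} (σ : Equiv.Perm (Fin (n + 2))) (i : Fin (n + 2)) :
    ∃ τ : Equiv.Perm (Fin (n + 1)), (∀ j, σ (i.succAbove j) = (σ i).succAbove (τ j)) ∧
      Equiv.Perm.sign τ = Equiv.Perm.sign σ * (-1) ^ ((i : ℕ) + (σ i : ℕ)) := by
  let ρ : Equiv.Perm (Fin (n + 2)) := (σ i).cycleRange * σ * i.cycleRange⁻¹
  have hρ : ρ 0 = 0 := by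
    simp [ρ, Fin.cycleRange_symm_zero, Fin.cycleRange_self]
  obtain ⟨⟨a, τ⟩, hτ⟩ := Equiv.Perm.decomposeFin.symm.surjective ρ
  obtain rfl : a = 0 := by rw [← hρ, ← hτ, Equiv.Perm.decomposeFin_symm_apply_zero]
  refine ⟨τ, fun j => ?_, ?_⟩
  · have h := congrArg (fun r : Equiv.Perm (Fin (n + 2)) => (σ i).cycleRange⁻¹ (r j.succ)) hτ
    simp [ρ, Fin.cycleRange_symm_succ] at h
    exact h.symm
  · have h := congrArg Equiv.Perm.sign hτ
    rw [Equiv.Perm.decomposeFin.symm_sign] at h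
    simp [ρ, Fin.sign_cycleRange] at h
    rw [h, pow_add]
    exact (mul_comm _ _).trans (mul_assoc _ _ _).symm |>.trans (by rw [mul_comm])

theorem exists_perm_face {n : ℕ} (σ : Equiv.Perm (Fin (n + 2))) (i : Fin (n + 2)) :
    ∃ τ : Equiv.Perm (Fin (n + 1)), perm U σ ≫ face U i = face U (σ i) ≫ perm U τ ∧
      Equiv.Perm.sign τ = Equiv.Perm.sign σ * (-1) ^ ((i : ℕ) + (σ i : ℕ)) := by
  obtain ⟨τ, hτ, hs⟩ := exists_perm_succAbove σ i
  exact ⟨τ, tp_hom_ext n fun j => by simp [hτ], hs⟩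

/-- Products of affines are affine in separated spaces. -/
theorem isAffine_prodObj [S.IsSeparated] (hsep : IsSeparatedSp X) (A B : EtOver X) [IsAffine A.obj.left.left]
    [IsAffine B.obj.left.left] : IsAffine (EtOver.prodObj A B).obj.left.left :=
  (AlgSpace.isAffine_surjective_of_separated hsep
    ((B.property.1.isPullback' A.obj.hom).flip)).1

theorem isAffine_Tp [S.IsSeparated] (hsep : IsSeparatedSp X) [IsAffine U.obj.left.left] :
    ∀ n, IsAffine (Tp U n).obj.left.left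
  | 0 => inferInstanceAs (IsAffine U.obj.left.left)
  | n + 1 =>
    have := isAffine_Tp hsep n
    isAffine_prodObj hsep U (Tp U n)

end Groth.Agent.QcohEt15.Alt
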